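import Cfsg.Agent.N2.Tool
import Cfsg.Agent.TH.Alt.Base_m3
import Cfsg.Agent.DS.Gen.Split
import Cfsg.Agent.Lib.MinNormal
import Cfsg.Agent.DS.Cl.Main
import Cfsg.Agent.SB.Tor.Refl_m3
import Cfsg.Agent.H125.OrthRows
import Cfsg.Agent.S0277
import Cfsg.Agent.S0245
import Cfsg.Agent.S0286
import Cfsg.Agent.S0287
import Cfsg.Agent.S0288
import Cfsg.Agent.SM.Ti.Box
import Cfsg.Agent.FastGrp
import Cfsg.Agent.Prune
set_option linter.all false

section
prune_inst 0x7ffcacf82bb839dedfff7e77a6d0cdfc39909fffa6fff94bbfe001ffabdf2302094523a509e040fe1fa7401410a87843f97ee67fe26bdc7ffffd5ff41ffbee1fb5e6b408519488340f340ff663f0778e7f3fffffffffffffffffffffffffffbeffbdffffffff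

-- part: N2/Cl/Defs
section
set_option linter.all false
open scoped Cfsg.Agent.FastGrp

/-!
# N2 (S3519), classical socles: interface (helper89)

Frame of `DS/Cl`, `SB/Cl`, `TH/Cl`: `F : FR A`, `T = F.S`, `H ≤ F.Aut`, the point stabiliser in `T` is `H ⊓ F.S`.
The namespace is `N2C` (so that `Inv`, `cj` are the ones of `DS.Cl`).  See `notes/N2/cl.md`.
-/

set_option autoImplicit false

namespace Cfsg.Agent.N2C

open Cfsg Cfsg.Agent.DS.Cl Cfsg.Agent.DS.Cl.Fwd Module
open Cfsg.Agent.FP3 (Good MI ASRow)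
open Cfsg.Agent.N2 (Cf Fam Row fL fS fU fO fP fM)
open Cfsg.Agent.SB.Cl (rk rkL)
open Cfsg.Agent.TH.Cl (ParD NSD Irr1 Irr2 FldD TenD ExD SimD KL KU KSp KO Pred)

section defs

variable {A : Type} [Ring A] [StarRing A]

/-- the automorphisms of `F.S` induced by `H` -/
def gam (F : FR A) (H : Subgroup (RingAut A)) : Subgroup (MulAut F.S) where
  carrier := {σ | ∃ γ ∈ H, ∀ s : F.S, ((σ s : F.S) : RingAut A) = γ * s * γ⁻¹}
  one_mem' := ⟨1, one_mem _, fun s => by simp⟩
  mul_mem' := by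
    rintro σ τ ⟨γ, hγ, h⟩ ⟨δ, hδ, h'⟩
    exact ⟨γ * δ, mul_mem hγ hδ, fun s => by rw [MulAut.mul_apply, h, h']; group⟩
  inv_mem' := by
    rintro σ ⟨γ, hγ, h⟩
    refine ⟨γ⁻¹, inv_mem hγ, fun s => ?_⟩
    have h1 := h (σ⁻¹ s)
    rw [MulAut.apply_inv_self] at h1
    rw [h1]
    group

/-- the standing hypotheses; parabolic subgroups are excluded by `op`, `idx` (`N2.Par.asRow_of`) -/
structure Ctx (F : FR A) (H : Subgroup (RingAut A)) (p : ℕ) : Prop where
  cf : Cf
  ss : SS A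
  span : F.Span
  simple : IsSimpleGroup F.S
  noncomm : ¬ IsMulCommutative F.S
  le : H ≤ F.Aut
  mi : MI (H.subgroupOf F.S) (gam F H)
  prime : p.Prime
  char : (p : A) = 0
  op : pCore p ↥(H.subgroupOf F.S) = ⊥
  idx : p ∣ (H.subgroupOf F.S).index

/-- the goal -/
def Gd (F : FR A) (H : Subgroup (RingAut A)) : Prop := Good (H.subgroupOf F.S)

/-- C1: a fixed non-degenerate subspace (linear groups: a fixed decomposition `V = U ⊕ W`) -/
def FixD (H : Subgroup (RingAut A)) : Prop :=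
  ∃ e : A, e ≠ 0 ∧ e ≠ 1 ∧ e * e = e ∧ star e = e ∧ ∀ γ ∈ H, γ e = e

/-- C2: an orthogonal decomposition permuted transitively -/
def FrT (H : Subgroup (RingAut A)) : Prop :=
  Irr H ∧ ¬ FixD H ∧ ∃ D : Finset A, Fr D ∧ Inv H D ∧ ∀ e ∈ D, ∀ e' ∈ D, ∃ γ ∈ H, γ e = e'

/-- C5, C8: `H ⊓ F.S` is the centraliser of a field, graph or graph-field automorphism of prime order -/
def SubD (F : FR A) (H : Subgroup (RingAut A)) : Prop :=
  SimD F H ∧ ∃ φ ∈ F.Aut, φ ∉ Lin A ∧ (orderOf φ).Prime ∧ ∀ γ ∈ H, γ * φ = φ * γ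

/-- C8: orthogonal groups in symplectic groups of characteristic two -/
def QuadD (F : FR A) (H : Subgroup (RingAut A)) : Prop :=
  SimD F H ∧ F.L ≠ Lmin A ∧ ∃ l : A, l + star l = 1 ∧ ∀ γ ∈ H, γ l - l ∈ Lmin A

/-- the perfect group of lifts -/
def lft (F : FR A) (N : Subgroup (RingAut A)) : Subgroup Aˣ := ⁅N.comap (cj A) ⊓ F.Iso, N.comap (cj A) ⊓ F.Iso⁆

/-- class S: the lifts of the simple group `N` generate the ring `A` (absolutely irreducible, no subfield, no other
bilinear or hermitian form) and fix no other quadratic form -/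
structure Res (F : FR A) (H N : Subgroup (RingAut A)) : Prop where
  le : N ≤ H ⊓ F.S
  nrm : Main.Nrm H N
  simple : IsSimpleGroup N
  noncomm : ¬ IsMulCommutative N
  span : Subring.closure ((fun u : Aˣ => (u : A)) '' lft F N) = ⊤
  quad : ∀ l : A, l + star l = 1 → (∀ u ∈ lft F N, (u : A) * l * star (u : A) - l ∈ Lmin A) → F.L = Lmin A

/-- class S with the socle in the family `Q` -/
def ResD (Q : ℕ → Fam) (F : FR A) (H : Subgroup (RingAut A)) : Prop :=
  Irr2 H ∧ ¬ TenD H ∧ ∃ N, Res F H N ∧ Q (ringChar A) N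

end defs

/-! ### rows -/

def OnL (n₀ : ℕ) (P : Pred) : Prop := ∀ (K : Type) [Field K] [Fintype K] (n : ℕ) (F : FR (LR (Fin n) K))
  (H : Subgroup (RingAut (LR (Fin n) K))) (p : ℕ), KL F → n₀ ≤ n → Ctx F H p → P _ F H rkL → Gd F H

def OnU (n₀ : ℕ) (P : Pred) : Prop := ∀ (K V : Type) [Field K] [Fintype K] [AddCommGroup V] [Module K V] [Finite V]
  (h : HF K V) (F : FR h.EB) (q : ℕ) (H : Subgroup (RingAut h.EB)) (p : ℕ), KU h F q → n₀ ≤ finrank K V → Ctx F H p →
  P _ F H (rk h) → Gd F H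

def OnSp (k₀ : ℕ) (P : Pred) : Prop := ∀ (K V : Type) [Field K] [Fintype K] [AddCommGroup V] [Module K V] [Finite V]
  (h : HF K V) (F : FR h.EB) (k : ℕ) (H : Subgroup (RingAut h.EB)) (p : ℕ), KSp h F k → k₀ ≤ k → Ctx F H p →
  P _ F H (rk h) → Gd F H

def OnO (P : Pred) : Prop := ∀ (K V : Type) [Field K] [Fintype K] [AddCommGroup V] [Module K V] [Finite V]
  (h : HF K V) (F : FR h.EB) (Q : QuadraticForm K V) (H : Subgroup (RingAut h.EB)) (p : ℕ), KO h F Q → Ctx F H p →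
  P _ F H (rk h) → Gd F H

/-- all four kinds: `L_n`, `U_n` for `n ≥ 5`, `Sp_{2k}` for `k ≥ 3`, `O_n` for `n ≥ 7` -/
structure On (P : Pred) : Prop where
  l : OnL 5 P
  u : OnU 5 P
  sp : OnSp 3 P
  o : OnO P

/-! ### the classes as predicates -/

def pPar : Pred := fun _ _ _ F H _ => ParD F H
def pNS : Pred := fun _ _ _ F H _ => NSD F H
def pFix : Pred := fun _ _ _ _ H _ => FixD H
def pFr : Pred := fun _ _ _ _ H _ => FrT H
def pFld : Pred := fun _ _ _ _ H _ => FldD H
def pTen : Pred := fun _ _ _ _ H _ => TenD H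
def pExt : Pred := fun _ _ _ F H _ => ExD F H
def pSub : Pred := fun _ _ _ F H _ => SubD F H
def pQuad : Pred := fun _ _ _ F H _ => QuadD F H
def pRes (Q : ℕ → Fam) : Pred := fun _ _ _ F H _ => ResD Q F H
def pAll : Pred := fun _ _ _ _ _ _ => True

/-- socle of Lie type in the defining characteristic -/
def qDef : ℕ → Fam := fun p N _ => IsLieTypeChar p N
/-- alternating socle -/
def qAlt : ℕ → Fam := fun p N _ => ¬ IsLieTypeChar p N ∧ IsAlternating N
/-- sporadic socle, Tits group -/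
def qSpor : ℕ → Fam := fun p N _ => ¬ IsLieTypeChar p N ∧ (IsSporadicGroup N ∨ Lie.IsoTits N)
/-- socle of Lie type in another characteristic -/
def qCross : ℕ → Fam := fun p N _ => ¬ IsLieTypeChar p N ∧ ¬ IsAlternating N ∧ ∃ r : ℕ, r.Prime ∧ IsLieTypeChar r N

/-- [Cases] Aschbacher's case division -/
def BoxCases : Prop := ∀ (A : Type) [Ring A] [StarRing A] [Finite A] (F : FR A) (H : Subgroup (RingAut A)) (p : ℕ),
  Ctx F H p → ParD F H ∨ NSD F H ∨ FixD H ∨ FrT H ∨ FldD H ∨ TenD H ∨ ExD F H ∨ SubD F H ∨ QuadD F H ∨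
    ResD qDef F H ∨ ResD qAlt F H ∨ ResD qSpor F H ∨ ResD qCross F H

/-- all classes -/
structure Geo : Prop where
  par : On pPar
  ns : On pNS
  fix : On pFix
  fr : On pFr
  fld : On pFld
  ten : On pTen
  ext : On pExt
  sub : On pSub
  quad : On pQuad
  sdef : On (pRes qDef)
  salt : On (pRes qAlt)
  sspor : On (pRes qSpor)
  scross : On (pRes qCross)

theorem main_of (hc : BoxCases) (g : Geo) : On pAll := by
  refine ⟨fun K _ _ n F H p k hn c _ => ?_, fun K V _ _ _ _ _ f F q H p k hn c _ => ?_,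
    fun K V _ _ _ _ _ f F q H p k hn c _ => ?_, fun K V _ _ _ _ _ f F q H p k c _ => ?_⟩ <;>
    rcases hc _ F H p c with h | h | h | h | h | h | h | h | h | h | h | h | h
  exacts [g.par.l K n F H p k hn c h, g.ns.l K n F H p k hn c h, g.fix.l K n F H p k hn c h, g.fr.l K n F H p k hn c h,
    g.fld.l K n F H p k hn c h, g.ten.l K n F H p k hn c h, g.ext.l K n F H p k hn c h, g.sub.l K n F H p k hn c h,
    g.quad.l K n F H p k hn c h, g.sdef.l K n F H p k hn c h, g.salt.l K n F H p k hn c h,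
    g.sspor.l K n F H p k hn c h, g.scross.l K n F H p k hn c h,
    g.par.u K V f F q H p k hn c h, g.ns.u K V f F q H p k hn c h, g.fix.u K V f F q H p k hn c h,
    g.fr.u K V f F q H p k hn c h, g.fld.u K V f F q H p k hn c h, g.ten.u K V f F q H p k hn c h,
    g.ext.u K V f F q H p k hn c h, g.sub.u K V f F q H p k hn c h, g.quad.u K V f F q H p k hn c h,
    g.sdef.u K V f F q H p k hn c h, g.salt.u K V f F q H p k hn c h, g.sspor.u K V f F q H p k hn c h,
    g.scross.u K V f F q H p k hn c h,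
    g.par.sp K V f F q H p k hn c h, g.ns.sp K V f F q H p k hn c h, g.fix.sp K V f F q H p k hn c h,
    g.fr.sp K V f F q H p k hn c h, g.fld.sp K V f F q H p k hn c h, g.ten.sp K V f F q H p k hn c h,
    g.ext.sp K V f F q H p k hn c h, g.sub.sp K V f F q H p k hn c h, g.quad.sp K V f F q H p k hn c h,
    g.sdef.sp K V f F q H p k hn c h, g.salt.sp K V f F q H p k hn c h, g.sspor.sp K V f F q H p k hn c h,
    g.scross.sp K V f F q H p k hn c h,
    g.par.o K V f F q H p k c h, g.ns.o K V f F q H p k c h, g.fix.o K V f F q H p k c h,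
    g.fr.o K V f F q H p k c h, g.fld.o K V f F q H p k c h, g.ten.o K V f F q H p k c h,
    g.ext.o K V f F q H p k c h, g.sub.o K V f F q H p k c h, g.quad.o K V f F q H p k c h,
    g.sdef.o K V f F q H p k c h, g.salt.o K V f F q H p k c h, g.sspor.o K V f F q H p k c h,
    g.scross.o K V f F q H p k c h]

/-! ### the bridge -/

def fLn (n : ℕ) : Fam := fun T _ => ∃ (K : Type) (_ : Field K) (_ : Fintype K), (n = 2 → 4 ≤ Fintype.card K) ∧
  Nonempty (T ≃* Matrix.ProjectiveSpecialLinearGroup (Fin n) K)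

def fUn (n : ℕ) : Fam := fun T _ => ∃ (K : Type) (_ : Field K) (_ : Fintype K) (q : ℕ), Fintype.card K = q ^ 2 ∧
  ¬ (n = 3 ∧ q = 2) ∧ Nonempty (T ≃* PSU n K q)

def fSk (k : ℕ) : Fam := fun T _ => ∃ (K : Type) (_ : Field K) (_ : Fintype K), (k = 2 → 3 ≤ Fintype.card K) ∧
  Nonempty (T ≃* PSp k K)

def fP4 : Fam := fun T _ => ∃ (K : Type) (_ : Field K) (_ : Fintype K), Nonempty (T ≃* POmega K (quadFormPlus 4 K))

/-- [Br] linear groups, one dimension at a time (also for `n = 3, 4`) -/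
def BrL : Prop := Cf → ∀ n, 3 ≤ n → (∀ (K : Type) [Field K] [Fintype K] (F : FR (LR (Fin n) K))
  (H : Subgroup (RingAut (LR (Fin n) K))) (p : ℕ), KL F → Ctx F H p → Gd F H) → Row (fLn n)

/-- [Br] unitary groups -/
def BrU : Prop := Cf → ∀ n, 3 ≤ n → (∀ (K V : Type) [Field K] [Fintype K] [AddCommGroup V] [Module K V] [Finite V]
  (h : HF K V) (F : FR h.EB) (q : ℕ) (H : Subgroup (RingAut h.EB)) (p : ℕ), KU h F q → finrank K V = n → Ctx F H p →
  Gd F H) → Row (fUn n)

/-- [Br] symplectic groups; for `Sp₄(2^a)` only the groups `Γ` without graph automorphisms -/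
def BrSp : Prop := Cf → ∀ k, 2 ≤ k → (∀ (K V : Type) [Field K] [Fintype K] [AddCommGroup V] [Module K V] [Finite V]
  (h : HF K V) (F : FR h.EB) (H : Subgroup (RingAut h.EB)) (p : ℕ), KSp h F k → Ctx F H p → Gd F H) →
  ∀ (K : Type) [Field K] [Fintype K], (k = 2 → 3 ≤ Fintype.card K) → ∀ (B : Subgroup (PSp k K))
    (Γ : Subgroup (MulAut (PSp k K))), MI B Γ →
    (3 ≤ k ∨ (2 : K) ≠ 0 ∨ Γ ≤ (Cfsg.Agent.ClassicalGeometry.SympAutSemi.Psi k K).range) → Good B

/-- [D4] `PΩ₈⁺(q)` -/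
def BoxD4 : Prop := Cf → OnO pAll → Row fP4

/-- [Br] orthogonal groups -/
def BrO : Prop := Cf → OnO pAll → Row fP4 → Row fO ∧ Row fP ∧ Row fM

/-- the small dimensions -/
structure Low : Prop where
  l2 : Row (fLn 2)
  l3 : Row (fLn 3)
  l4 : Row (fLn 4)
  u3 : Row (fUn 3)
  u4 : Row (fUn 4)
  s2 : Row (fSk 2)

/-- **the six classical rows** -/
theorem rows_of (cf : Cf) (bL : BrL) (bU : BrU) (bS : BrSp) (bO : BrO) (d4 : BoxD4) (low : Low) (m : On pAll) :
    Row fL ∧ Row fS ∧ Row fU ∧ Row fO ∧ Row fP ∧ Row fM := by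
  refine ⟨?_, ?_, ?_, bO cf m.o (d4 cf m.o)⟩
  · rintro T _ _ _ hn ⟨K, _, _, n, h2, h4, he⟩
    by_cases h5 : 5 ≤ n
    · exact bL cf n (by omega) (fun K _ _ F H p k c => m.l K n F H p k h5 c trivial) T hn ⟨K, _, _, h4, he⟩
    obtain rfl | rfl | rfl : n = 2 ∨ n = 3 ∨ n = 4 := by omega
    exacts [low.l2 T hn ⟨K, _, _, h4, he⟩, low.l3 T hn ⟨K, _, _, h4, he⟩, low.l4 T hn ⟨K, _, _, h4, he⟩]
  · rintro T _ _ _ hn ⟨K, _, _, k, h2, h4, ⟨e⟩⟩
    by_cases h3 : 3 ≤ k
    · exact N2.asRow_congr e.symm fun B Γ hB => bS cf k h2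
        (fun K V _ _ _ _ _ f F H p j c => m.sp K V f F k H p j h3 c trivial) K h4 B Γ hB (Or.inl h3)
    obtain rfl : k = 2 := by omega
    exact low.s2 T hn ⟨K, _, _, h4, ⟨e⟩⟩
  · rintro T _ _ _ hn ⟨K, _, _, n, q, hq, h3, h4, he⟩
    by_cases h5 : 5 ≤ n
    · exact bU cf n h3 (fun K V _ _ _ _ _ f F q H p k hn c => m.u K V f F q H p k (hn ▸ h5) c trivial) T hn
        ⟨K, _, _, q, hq, h4, he⟩
    obtain rfl | rfl : n = 3 ∨ n = 4 := by omega
    exacts [low.u3 T hn ⟨K, _, _, q, hq, h4, he⟩, low.u4 T hn ⟨K, _, _, q, hq, h4, he⟩]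

/-! ### basic consequences of `Ctx` -/

namespace Ctx

variable {A : Type} [Ring A] [StarRing A] {F : FR A} {H : Subgroup (RingAut A)} {p : ℕ} (c : Ctx F H p)
include c

theorem le_SAut : H ≤ SAut A := c.le.trans F.Aut_le_SAut

theorem ringChar_eq : ringChar A = p := by
  have := c.ss.1
  exact ((Nat.dvd_prime c.prime).1 (ringChar.dvd c.char)).resolve_left CharP.ringChar_ne_one

theorem not_le : ¬ F.S ≤ H := fun h => c.mi.ne_top (Subgroup.subgroupOf_eq_top.2 h)

theorem inf_ne_bot : H ⊓ F.S ≠ ⊥ := fun h => c.mi.ne_bot (Subgroup.subgroupOf_eq_bot.2 (disjoint_iff.2 h))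

theorem conj_inf {γ s : RingAut A} (hγ : γ ∈ H) (hs : s ∈ H ⊓ F.S) : γ * s * γ⁻¹ ∈ H ⊓ F.S :=
  ⟨H.mul_mem (H.mul_mem hγ hs.1) (H.inv_mem hγ), FR.conj_mem_S (c.le hγ) hs.2⟩

/-- **maximality**: an `H`-invariant subgroup which contains `H ⊓ F.S` and not `F.S` meets `F.S` in `H ⊓ F.S` -/
theorem max {B : Subgroup (RingAut A)} (h1 : H ⊓ F.S ≤ B) (h2 : ∀ γ ∈ H, ∀ b ∈ B, b ∈ F.S → γ * b * γ⁻¹ ∈ B)
    (h3 : ¬ F.S ≤ B) {s : RingAut A} (hs : s ∈ F.S) (hb : s ∈ B) : s ∈ H := by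
  rcases c.mi.max (B.subgroupOf F.S) (fun x hx => h1 ⟨hx, x.2⟩) (by
    rintro σ ⟨γ, hγ, h⟩ b hb
    rw [Subgroup.mem_subgroupOf, h]
    exact h2 γ hγ b hb b.2) with h | h
  · exact (h.le (show (⟨s, hs⟩ : F.S) ∈ B.subgroupOf F.S from hb) :)
  · exact absurd (Subgroup.subgroupOf_eq_top.1 h) h3

/-- an overgroup of `H` which does not contain `F.S` -/
theorem max' {M : Subgroup (RingAut A)} (h1 : H ≤ M) (h3 : ¬ F.S ≤ M) {s : RingAut A} (hs : s ∈ F.S) (hb : s ∈ M) :
    s ∈ H :=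
  c.max (inf_le_left.trans h1) (fun _ hγ _ hb _ => mul_mem (mul_mem (h1 hγ) hb) (inv_mem (h1 hγ))) h3 hs hb

/-- **`H ⊓ F.S` is the stabiliser** of every point fixed by `H` and not by `F.S` -/
theorem mem_of_smul {X : Type*} [MulAction (RingAut A) X] {x : X} (h1 : ∀ γ ∈ H, γ • x = x) (h2 : ¬ ∀ s ∈ F.S, s • x = x)
    {s : RingAut A} (hs : s ∈ F.S) (hx : s • x = x) : s ∈ H :=
  c.max' (M := MulAction.stabilizer _ x) h1 h2 hs hx

/-- the cosets of `H ⊓ F.S` are the points of the orbit -/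
theorem gd_of_smul [Finite A] {X : Type*} [MulAction (RingAut A) X] {x : X} (h1 : ∀ γ ∈ H, γ • x = x)
    (h2 : ¬ ∀ s ∈ F.S, s • x = x) {a : RingAut A} (ha : a ∈ F.S) (hx : a • x = x)
    (h : {y | (∃ s ∈ F.S, s • x = y) ∧ a • y = y}.ncard ^ 3 ≤ {y | ∃ s ∈ F.S, s • x = y}.ncard) : Gd F H := by
  have e : H.subgroupOf F.S = MulAction.stabilizer F.S x :=
    Subgroup.ext fun s => ⟨h1 s, c.mem_of_smul h1 h2 s.2⟩
  have e1 : MulAction.orbit F.S x = {y | ∃ s ∈ F.S, s • x = y} :=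
    Set.ext fun y => ⟨fun ⟨s, hs⟩ => ⟨s, s.2, hs⟩, fun ⟨s, hs, h⟩ => ⟨⟨s, hs⟩, h⟩⟩
  unfold Gd
  rw [e]
  refine ⟨⟨a, ha⟩, hx, ?_⟩
  rw [MulAction.index_stabilizer, e1]
  refine le_trans (Nat.pow_le_pow_left (le_of_eq ?_) 3) h
  let f : F.S ⧸ MulAction.stabilizer F.S x → X := MulAction.ofQuotientStabilizer F.S x
  have hf : Function.Injective f := MulAction.injective_ofQuotientStabilizer F.S x
  rw [FP3.fx, Nat.card_coe_set_eq, ← Set.ncard_image_of_injective _ hf]
  congr 1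
  ext y
  constructor
  · rintro ⟨z, hz, rfl⟩
    refine ⟨e1.le (MulAction.ofQuotientStabilizer_mem_orbit F.S x z), ?_⟩
    exact (MulAction.ofQuotientStabilizer_smul F.S x ⟨a, ha⟩ z).symm.trans (congrArg f hz)
  · rintro ⟨⟨s, hs, rfl⟩, h3⟩
    exact ⟨((⟨s, hs⟩ : F.S) : F.S ⧸ MulAction.stabilizer F.S x),
      hf ((MulAction.ofQuotientStabilizer_smul F.S x ⟨a, ha⟩ _).trans h3), rfl⟩

/-- the same for subsets of the ring -/
theorem mem_of_inv [Finite A] {X : Set A} (hX : Inv H X) (hS : ¬ Inv F.S X) {s : RingAut A} (hs : s ∈ F.S)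
    (h : ∀ x ∈ X, s x ∈ X) : s ∈ H := by
  have : Finite (RingAut A) := Finite.of_injective (fun γ : RingAut A => (γ : A → A)) DFunLike.coe_injective
  let M : Submonoid (RingAut A) :=
    { carrier := {γ | ∀ x ∈ X, γ x ∈ X}
      one_mem' := fun _ hx => hx
      mul_mem' := fun ha hb x hx => ha _ (hb x hx) }
  let M' : Subgroup (RingAut A) :=
    { M with
      inv_mem' := fun {γ} hγ => by
        have h1 : γ⁻¹ = γ ^ (orderOf γ - 1) := by
          rw [inv_eq_iff_mul_eq_one, ← pow_succ', Nat.sub_add_cancel (orderOf_pos γ), pow_orderOf_eq_one]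
        exact h1 ▸ M.pow_mem hγ _ }
  exact c.max' (M := M') hX hS hs h

/-- `H ⊓ F.S` is the normaliser of every proper `H`-invariant subgroup -/
theorem mem_of_norm {N : Subgroup (RingAut A)} (hN : N ≤ H ⊓ F.S) (h0 : N ≠ ⊥) (hn : Main.Nrm H N) {s : RingAut A}
    (hs : s ∈ F.S) (h : s ∈ Subgroup.normalizer (N : Set (RingAut A))) : s ∈ H := by
  refine c.max' (M := Subgroup.normalizer (N : Set (RingAut A))) (fun γ hγ => Subgroup.mem_normalizer_iff.2 fun x =>
    ⟨hn γ hγ x, fun hx => by simpa [mul_assoc] using hn _ (H.inv_mem hγ) _ hx⟩) (fun h1 => ?_) hs h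
  have := c.simple
  have h2 : (N.subgroupOf F.S).Normal := ⟨fun x hx g => (Subgroup.mem_normalizer_iff.1 (h1 g.2) x).1 hx⟩
  rcases h2.eq_bot_or_eq_top with h3 | h3
  · exact h0 (eq_bot_iff.2 fun x hx => (Subgroup.subgroupOf_eq_bot.1 h3).le_bot ⟨hx, (hN hx).2⟩)
  · exact c.not_le ((Subgroup.subgroupOf_eq_top.1 h3).trans (hN.trans inf_le_left))

end Ctx

end Cfsg.Agent.N2C

private theorem dce_e5ccaf01b858 : _root_.True := by
  try have : _root_.True := by simp only [_root_.Cfsg.Agent.FP3.fx.eq_1]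
  exact _root_.True.intro
end

-- part: N2/Cl/SzG/Main
section
prune_inst 0x5207c04582212000018851250203c42c2000000004b040074c0040205ca9c688dc12a21b17008050ab010454039802811980080420000000a000000011804a1800050009308010ca60089800000000000000000000000000000000000041000200000000
set_option linter.all false
open scoped Cfsg.Agent.FastGrp

/-!
# N2 (S3519): the centraliser of an arbitrary isometry (helper97, proof by helper69)

* `sizeG` : `|C_Iso(u)|² ≤ |C_A(u)| |V|`;
* `chain` : `|C_Iso(u)| ≤ q ^ ∑ (n - dim W_i)` for a chain of `u`-submodules with cyclic factors.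
-/

set_option autoImplicit false
set_option linter.unusedSectionVars false

namespace Cfsg.Agent.N2C.SzG

open Cfsg Cfsg.Agent.DS.Cl Cfsg.Agent.DS.Cl.Fwd Module Subgroup Polynomial

section grp

variable {G : Type*} [Group G] [Finite G]

theorem card_step {U U' : Subgroup G} {Y : Type*} [Finite Y] (f : U → Y) (h : ∀ a b : U, f a = f b → (a : G)⁻¹ * b ∈ U') :
    Nat.card U ≤ Nat.card Y * Nat.card U' := by
  rw [← Nat.card_prod]
  refine Nat.card_le_card_of_injective (fun a => (f a, ⟨_, h (Function.invFun f (f a)) a (Function.invFun_eq ⟨a, rfl⟩)⟩))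
    fun a b e => ?_
  obtain ⟨e1, e2⟩ := Prod.mk.inj e
  have e3 := Subtype.mk.inj e2
  rw [e1] at e3
  exact Subtype.ext (mul_left_cancel e3)

theorem card_chain (U : ℕ → Subgroup G) {k : ℕ} (m : Fin k → ℕ) (h : ∀ i : Fin k, Nat.card (U i) ≤ m i * Nat.card (U (i + 1))) :
    Nat.card (U 0) ≤ (∏ i, m i) * Nat.card (U k) := by
  induction k with
  | zero => simp only [_root_.Finset.univ_eq_empty, _root_.Finset.prod_empty, _root_.one_mul, _root_.Std.le_refl]
  | succ k ih =>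
    rw [Fin.prod_univ_castSucc, mul_assoc]
    exact (ih _ fun i => h i.castSucc).trans (Nat.mul_le_mul_left _ (h (Fin.last k)))

end grp

theorem card_mul_le {M : Type*} [AddCommGroup M] [Finite M] {X X' R : AddSubgroup M} (h : X ≤ R) (h' : X' ≤ R) :
    Nat.card X * Nat.card X' ≤ Nat.card R * Nat.card ↥(X ⊓ X') := by
  let f : X × X' →+ R := (X.subtype.coprod (-X'.subtype)).codRestrict R fun x => R.add_mem (h x.1.2) (R.neg_mem (h' x.2.2))
  rw [← Nat.card_prod, ← f.ker.index_mul_card, AddSubgroup.index_ker]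
  have e : ∀ x : f.ker, (x.1.1 : M) = x.1.2 := fun x => add_neg_eq_zero.1 (congrArg Subtype.val x.2)
  refine Nat.mul_le_mul (AddSubgroup.card_le_card_addGroup _) (Nat.card_le_card_of_injective
    (fun x => ⟨x.1.1, x.1.1.2, e x ▸ x.1.2.2⟩) fun x y k => ?_)
  have k' : (x.1.1 : M) = y.1.1 := Subtype.mk.inj k
  exact Subtype.ext (Prod.ext (Subtype.ext k') (Subtype.ext ((e x).symm.trans (k'.trans (e y)))))

section ring

variable {A : Type*} [Ring A] [StarRing A] [Finite A]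

/-- the ring level statement -/
theorem card_sq_le (R : Subring A) (hR : ∀ x ∈ R, star x ∈ R) {k : ℕ} (e : Fin k → A) (he : ∀ i, e i ∈ R) (h1 : ∑ i, e i = 1)
    (ho : ∀ i j, i ≠ j → e i * e j = 0) (G : Subgroup Aˣ) (hG : ∀ c ∈ G, (c : A) ∈ R ∧ (c : A) * star (c : A) = 1) :
    Nat.card G ^ 2 ≤ Nat.card R * Nat.card {x : A // x ∈ R ∧ ∀ i j, i ≠ j → star (e j) * x * e i = 0} := by
  have hid : ∀ i, e i * e i = e i := fun i => by
    conv_rhs => rw [← mul_one (e i), ← h1, Finset.mul_sum]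
    exact (Finset.sum_eq_single i (fun j _ hj => ho i j hj.symm) (by simp only [_root_.Finset.mem_univ, _root_.not_true_eq_false, _root_.IsEmpty.forall_iff])).symm
  let U : ℕ → Subgroup Aˣ := fun i =>
    { carrier := {c | c ∈ G ∧ ∀ j : Fin k, (j : ℕ) < i → c * e j = e j}
      one_mem' := ⟨one_mem _, fun j _ => one_mul _⟩
      mul_mem' := fun {a b} ha hb => ⟨mul_mem ha.1 hb.1, fun j hj => by rw [Units.val_mul, mul_assoc, hb.2 j hj, ha.2 j hj]⟩
      inv_mem' := fun {a} ha => ⟨inv_mem ha.1, fun j hj => by rw [Units.inv_mul_eq_iff_eq_mul, ha.2 j hj]⟩ }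
  let Y : Fin k → Type _ := fun i => {y : A // y ∈ R ∧ y * e i = y ∧ ∀ j < i, star (e j) * y = 0}
  have hs : ∀ i : Fin k, Nat.card (U i) ≤ Nat.card (Y i) * Nat.card (U (i + 1)) := fun i => by
    refine card_step (fun c => ⟨(c.1 - 1) * e i, R.mul_mem (R.sub_mem (hG _ c.2.1).1 R.one_mem) (he i), by rw [mul_assoc, hid],
      fun j hj => ?_⟩) fun a b hab => ⟨mul_mem (inv_mem a.2.1) b.2.1, fun j hj => ?_⟩
    · have h2 : star (c.1 : A) * c.1 = 1 := by rw [← Units.inv_eq_of_mul_eq_one_right (hG _ c.2.1).2, Units.inv_mul]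
      have h3 : star (e j) * c.1 = star (e j) := by
        conv_lhs => rw [← c.2.2 j hj, star_mul, mul_assoc, h2, mul_one]
      rw [← mul_assoc, mul_sub, h3, mul_one, sub_self, zero_mul]
    · rcases (Nat.lt_succ_iff.1 hj).eq_or_lt with h | h
      · have h2 := Subtype.mk.inj hab
        rw [sub_mul, sub_mul, sub_left_inj] at h2
        rw [Fin.ext h, Units.val_mul, mul_assoc, ← h2, Units.inv_mul_cancel_left]
      · exact (mul_mem (inv_mem a.2) b.2).2 j h
  have hk : Nat.card (U k) = 1 := by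
    rw [show U k = ⊥ from eq_bot_iff.2 fun c hc => Units.ext ?_, card_bot]
    rw [← mul_one (c : A), ← h1, Finset.mul_sum, Finset.sum_congr rfl fun j _ => hc.2 j j.2, h1, Units.val_one]
  let X : AddSubgroup A :=
    { carrier := {x | x ∈ R ∧ ∀ i j, j < i → star (e j) * x * e i = 0}
      zero_mem' := ⟨R.zero_mem, fun _ _ _ => by simp only [_root_.MulZeroClass.mul_zero, _root_.MulZeroClass.zero_mul]⟩
      add_mem' := fun ha hb => ⟨R.add_mem ha.1 hb.1, fun i j h => by rw [mul_add, add_mul, ha.2 i j h, hb.2 i j h, add_zero]⟩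
      neg_mem' := fun ha => ⟨R.neg_mem ha.1, fun i j h => by rw [mul_neg, neg_mul, ha.2 i j h, neg_zero]⟩ }
  let X' : AddSubgroup A :=
    { carrier := {x | x ∈ R ∧ ∀ i j, i < j → star (e j) * x * e i = 0}
      zero_mem' := ⟨R.zero_mem, fun _ _ _ => by simp only [_root_.MulZeroClass.mul_zero, _root_.MulZeroClass.zero_mul]⟩
      add_mem' := fun ha hb => ⟨R.add_mem ha.1 hb.1, fun i j h => by rw [mul_add, add_mul, ha.2 i j h, hb.2 i j h, add_zero]⟩
      neg_mem' := fun ha => ⟨R.neg_mem ha.1, fun i j h => by rw [mul_neg, neg_mul, ha.2 i j h, neg_zero]⟩ }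
  have hsum : ∀ (y : ∀ i, Y i) (i : Fin k), (∑ l, (y l).1) * e i = (y i).1 := fun y i => by
    rw [Finset.sum_mul, Finset.sum_eq_single i (fun l _ hl => by rw [← (y l).2.2.1, mul_assoc, ho l i hl, mul_zero]) (by simp only [_root_.Finset.mem_univ, _root_.not_true_eq_false, _root_.IsEmpty.forall_iff]),
      (y i).2.2.1]
  have h2 : Nat.card G ≤ Nat.card X := by
    have h3 := card_chain U _ hs
    rw [hk, mul_one, ← Nat.card_pi, show U 0 = G from Subgroup.ext fun c => ⟨fun h => h.1, fun h => ⟨h, fun _ k => absurd k (by omega)⟩⟩] at h3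
    refine h3.trans (Nat.card_le_card_of_injective (fun y => ⟨∑ l, (y l).1, R.sum_mem fun l _ => (y l).2.1, fun i j h => ?_⟩)
      fun y y' h => _root_.funext fun i => Subtype.ext ?_)
    · rw [mul_assoc, hsum, (y i).2.2.2 j h]
    · rw [← hsum, ← hsum, Subtype.mk.inj h]
  have h3 : Nat.card X ≤ Nat.card X' :=
    Nat.card_le_card_of_injective (fun x => ⟨star x.1, hR _ x.2.1, fun i j h => by
      simpa only [mul_assoc, _root_.StarMul.star_mul, _root_.star_star, _root_.star_zero] using congrArg star (x.2.2 j i h)⟩) fun x y h => Subtype.ext (star_injective (Subtype.mk.inj h))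
  calc _ ≤ Nat.card X * Nat.card X' := by rw [sq]; exact Nat.mul_le_mul h2 (h2.trans h3)
    _ ≤ Nat.card R.toAddSubgroup * Nat.card ↥(X ⊓ X') := card_mul_le (fun _ h => h.1) fun _ h => h.1
    _ ≤ _ := Nat.mul_le_mul_left _ (Nat.card_le_card_of_injective (fun x => ⟨x.1, x.2.1.1, fun i j h =>
      h.lt_or_gt.elim (x.2.2.2 i j) (x.2.1.2 i j)⟩) fun x y h => Subtype.ext (by simpa only [_root_.SetLike.coe_eq_coe, _root_.ne_eq, _root_.Subtype.mk.injEq] using h))

end ring

/-- decomposition into cyclic modules `e i V = K[T] e i v` -/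
theorem exists_cyc {K V : Type} [Field K] [AddCommGroup V] [Module K V] [FiniteDimensional K V] (T : Module.End K V) :
    ∃ (k : ℕ) (e : Fin k → Module.End K V) (v : V), ∑ i, e i = 1 ∧ (∀ i j, i ≠ j → e i * e j = 0) ∧ (∀ i, e i * T = T * e i) ∧
      ∀ x : Module.End K V, x * T = T * x → (∀ i, x (e i v) = 0) → x = 0 := by
  classical
  obtain ⟨ι, _, p, -, n, ⟨f⟩⟩ := Module.equiv_directSum_of_isTorsion (Module.AEval.isTorsion_of_finiteDimensional K V T)
  let g : Module.AEval' T ≃ₗ[K[X]] ∀ i : ι, K[X] ⧸ (Ideal.span {p i ^ n i} : Ideal K[X]) := f ≪≫ₗ DirectSum.linearEquivFunOnFintype _ _ _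
  let o : V ≃ₗ[K] Module.AEval' T := Module.AEval'.of T
  let E : ι → Module.End K V := fun i => o.symm.toLinearMap ∘ₗ
    (((g.symm.toLinearMap ∘ₗ LinearMap.mulLeft K[X] (Pi.single i 1) ∘ₗ g.toLinearMap).restrictScalars K :)) ∘ₗ o.toLinearMap
  have hE : ∀ i x, E i x = o.symm (g.symm (Pi.single i 1 * g (o x))) := fun _ _ => rfl
  have hp : ∀ (r : K[X]) (x : V), o (aeval T r x) = r • o x := fun r x => Module.AEval.of_aeval_smul T r x
  let σ := (Fintype.equivFin ι).symm
  refine ⟨_, fun i => E (σ i), o.symm (g.symm 1), ?_, fun i j h => ?_, fun i => ?_, fun x hx h => ?_⟩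
  · rw [σ.sum_comp E]
    ext x
    simp only [LinearMap.sum_apply, hE, ← map_sum, ← Finset.sum_mul]
    rw [show ∑ i, Pi.single i 1 = (1 : ∀ i : ι, K[X] ⧸ (Ideal.span {p i ^ n i} : Ideal K[X])) from Finset.univ_sum_single 1]
    simp
  · ext x
    rw [Module.End.mul_apply, hE, hE, o.apply_symm_apply, g.apply_symm_apply, ← mul_assoc,
      show Pi.single (σ i) 1 * Pi.single (σ j) 1 = (0 : ∀ i : ι, K[X] ⧸ (Ideal.span {p i ^ n i} : Ideal K[X])) from ?_]
    · simp
    · funext l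
      by_cases hl : l = σ i
      · rw [Pi.mul_apply, Pi.single_eq_of_ne (i := σ j) (by rw [hl]; exact σ.injective.ne h), mul_zero]; rfl
      · rw [Pi.mul_apply, Pi.single_eq_of_ne hl, zero_mul]; rfl
  · ext x
    have h1 := hp X
    simp only [aeval_X] at h1
    apply o.injective
    rw [Module.End.mul_apply, Module.End.mul_apply, h1, hE, hE, h1, o.apply_symm_apply, o.apply_symm_apply, map_smul, mul_smul_comm,
      map_smul]
  · ext w
    choose r hr using fun i => Ideal.Quotient.mk_surjective (g (o w) i)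
    have h1 : w = ∑ i, aeval T (r i) (E i (o.symm (g.symm 1))) := by
      apply o.injective
      apply g.injective
      simp only [map_sum, hp, hE, o.apply_symm_apply, g.apply_symm_apply, map_smul, mul_one]
      funext l
      rw [Finset.sum_apply, Finset.sum_eq_single l (fun i _ hi => by rw [Pi.smul_apply, Pi.single_eq_of_ne hi.symm, smul_zero])
        (by simp only [_root_.Finset.mem_univ, _root_.not_true_eq_false, _root_.Pi.smul_apply, _root_.Pi.single_eq_same, _root_.IsEmpty.forall_iff]), Pi.smul_apply, Pi.single_eq_same, ← hr, ← Algebra.algebraMap_eq_smul_one]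
      rfl
    rw [h1, map_sum]
    refine Finset.sum_eq_zero fun i _ => ?_
    have h2 : Commute x (aeval T (r i)) := by
      rw [aeval_eq_sum_range]
      exact Commute.sum_right _ _ _ fun l _ => (Commute.pow_right hx l).smul_right _
    have h3 := h (σ.symm i)
    simp only [σ.apply_symm_apply] at h3
    rw [← Module.End.mul_apply, h2.eq, Module.End.mul_apply, h3, map_zero]

variable {K V : Type} [Field K] [AddCommGroup V] [Module K V] [Finite K] [Finite V] (h : HF K V)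

/-- **size of any group of isometries commuting with an isometry `u`** -/
theorem sizeG' {u : h.EB} (hu : u * star u = 1) (G : Subgroup h.EBˣ)
    (hG : ∀ c ∈ G, (c : h.EB) * star (c : h.EB) = 1 ∧ u * c = c * u) :
    Nat.card G ^ 2 ≤ Nat.card {x : h.EB // u * x = x * u} * Nat.card V := by
  have : Module.Finite K V := Module.Finite.of_finite
  obtain ⟨k, e, v, h1, ho, hc, hv⟩ := exists_cyc (h.ap u)
  have hu' : star u * u = 1 := mul_eq_one_comm.1 hu
  have hm : ∀ x, x ∈ Subring.centralizer ({u} : Set h.EB) ↔ u * x = x * u := fun x => by simp [Subring.mem_centralizer_iff]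
  have hR : ∀ x ∈ Subring.centralizer ({u} : Set h.EB), star x ∈ Subring.centralizer ({u} : Set h.EB) := fun x hx => by
    have h2 := congrArg star ((hm x).1 hx)
    rw [star_mul, star_mul] at h2
    rw [hm]
    calc u * star x = u * (star x * star u) * u := by rw [mul_assoc u, mul_assoc, hu', mul_one]
      _ = _ := by rw [h2, ← mul_assoc, hu, one_mul]
  have h1' : ∑ i, h.eb (e i) = 1 := h1
  refine (card_sq_le _ hR (fun i => h.eb (e i)) (fun i => (hm _).2 (hc i).symm) h1' ho G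
    fun c k => ⟨(hm _).2 (hG c k).2, (hG c k).1⟩).trans (Nat.mul_le_mul (le_of_eq (Nat.card_congr (Equiv.subtypeEquivRight hm)))
      (Nat.card_le_card_of_injective (fun x => h.ap x.1 v) fun x y k => Subtype.ext (sub_eq_zero.1 ?_)))
  have hs : ∑ i, star (h.eb (e i)) = 1 := by rw [← star_sum, h1', star_one]
  have hz : ∀ i j, i ≠ j → star (h.eb (e j)) * (x.1 - y.1) * h.eb (e i) = 0 := fun i j n => by
    rw [mul_sub, sub_mul, x.2.2 i j n, y.2.2 i j n, sub_zero]
  refine hv (h.ap (x.1 - y.1)) ((hm _).1 (sub_mem x.2.1 y.2.1)).symm fun i => ?_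
  have h2 : (x.1 - y.1) * h.eb (e i) = star (h.eb (e i)) * (x.1 - y.1) := by
    calc _ = ∑ j, star (h.eb (e j)) * (x.1 - y.1) * h.eb (e i) := by rw [← Finset.sum_mul, ← Finset.sum_mul, hs, one_mul]
      _ = star (h.eb (e i)) * (x.1 - y.1) * h.eb (e i) := Finset.sum_eq_single i (fun j _ n => hz i j n.symm) (by simp only [_root_.Finset.mem_univ, _root_.not_true_eq_false, _root_.ne_eq, _root_.IsEmpty.forall_iff])
      _ = ∑ j, star (h.eb (e i)) * (x.1 - y.1) * h.eb (e j) := (Finset.sum_eq_single i (fun j _ n => hz j i n) (by simp only [_root_.Finset.mem_univ, _root_.not_true_eq_false, _root_.ne_eq, _root_.IsEmpty.forall_iff])).symm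
      _ = _ := by rw [← Finset.mul_sum, h1', mul_one]
  change h.ap ((x.1 - y.1) * h.eb (e i)) v = 0
  rw [h2, h.ap_mul, h.ap_sub, sub_eq_zero.2 k, map_zero]

/-- **(a)** `|C_W(u)|² ≤ |C_A(u)| |V|` for every subgroup `W` of the isometry group -/
theorem sizeG (F : FR h.EB) {u : h.EBˣ} (hu : u ∈ F.Iso) {W : Subgroup h.EBˣ} (hW : W ≤ F.Iso) :
    Nat.card ↥(centralizer {u} ⊓ W) ^ 2 ≤ Nat.card {x : h.EB // u * x = x * u} * Nat.card V :=
  sizeG' h hu.1 _ fun _ hc => ⟨(hW hc.2).1, congrArg Units.val (mem_centralizer_singleton_iff.1 hc.1).symm⟩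

end Cfsg.Agent.N2C.SzG
end

-- part: N2/Ex/Tri
section
prune_inst 0x152039440c40020000188592f1203c46f6000590006b0401dfe005420486df6b2d85af61f9e01e050b3aaa65203b8048101000d90018000020008e00411804a194ba72c6b348b10ca70099c0f887180c00000000000000000000000000041004200000000
set_option linter.all false
open scoped Cfsg.Agent.FastGrp

/-!
# N2 (S3519), groups of Lie type: the context `Cx`, the bridge to `ASRow` and the trichotomy (helper93)

`G` finite, `T ⊴ G` the socle, `H` a maximal subgroup not containing `T`, `A = H ⊓ T`.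

* `Cx p T H` : the non-parabolic context; `Gd T H` : the conclusion; `Cx.mi` : the structure `MI` on `↥T`;
* `cx_row` : from `Cx → Gd` to the hypothesis of `N2.Par.asRow_of`;
* `tri` : `DS.Loc`, or `Sim` (the socle of `A` is simple), or `Mul` (at least two simple factors).
-/

set_option autoImplicit false
set_option linter.unusedSectionVars false

namespace Cfsg.Agent.N2.Ex

open Subgroup Cfsg.Agent.FP3 Cfsg.Agent.TH Cfsg.Agent.TH.Own

/-- the non-parabolic context -/
structure Cx (p : ℕ) {G : Type} [Group G] (T H : Subgroup G) : Prop where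
  setup : DS.Setup T H
  ne_bot : H ⊓ T ≠ ⊥
  noP : ∀ Q : Subgroup G, Q ≤ T → IsPGroup p Q → H ≤ normalizer (Q : Set G) → Q = ⊥
  idx : p ∣ (H.subgroupOf T).index

/-- the conclusion: `A = H ⊓ T`, as a subgroup of `T`, is good -/
def Gd {G : Type} [Group G] (T H : Subgroup G) : Prop := Good (H.subgroupOf T)

/-- `N ≤ H ⊓ T` is simple, normal in `H`, with trivial centraliser in `T` -/
structure Sim {G : Type} [Group G] (T H N : Subgroup G) : Prop where
  le : N ≤ H ⊓ T
  nrm : ∀ h ∈ H, ∀ x ∈ N, h * x * h⁻¹ ∈ N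
  simple : IsSimpleGroup N
  nonab : ¬ IsMulCommutative N
  cent : ∀ t ∈ T, (∀ x ∈ N, t * x = x * t) → t = 1

/-- `𝓢` is an `H`-invariant set of at least two commuting simple subgroups of `H ⊓ T` with trivial centraliser in `T` -/
structure Mul {G : Type} [Group G] (T H : Subgroup G) (𝓢 : Set (Subgroup G)) : Prop where
  le : ∀ S ∈ 𝓢, S ≤ H ⊓ T
  simple : ∀ S ∈ 𝓢, IsSimpleGroup S
  nonab : ∀ S ∈ 𝓢, ¬ IsMulCommutative S
  comm : ∀ S ∈ 𝓢, ∀ S' ∈ 𝓢, S ≠ S' → ∀ x ∈ S, ∀ y ∈ S', x * y = y * x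
  perm : ∀ h ∈ H, ∀ S ∈ 𝓢, TH.cj h S ∈ 𝓢
  two : 𝓢.Nontrivial
  cent : ∀ t ∈ T, (∀ S ∈ 𝓢, ∀ x ∈ S, t * x = x * t) → t = 1

/-- `R ≤ H ⊓ T` is perfect, normal in `H`, with trivial centraliser in `T` -/
structure Prf {G : Type} [Group G] (T H R : Subgroup G) : Prop where
  le : R ≤ H ⊓ T
  nrm : ∀ h ∈ H, ∀ x ∈ R, h * x * h⁻¹ ∈ R
  perf : ⁅R, R⁆ = R
  cent : ∀ t ∈ T, (∀ x ∈ R, t * x = x * t) → t = 1

section basic

variable {p : ℕ} {G : Type} [Group G] {T H : Subgroup G}

theorem perf_of_simple {N : Subgroup G} (h : IsSimpleGroup N) (hn : ¬ IsMulCommutative N) : ⁅N, N⁆ = N := by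
  have h1 : ⁅(⊤ : Subgroup N), (⊤ : Subgroup N)⁆ = (⊤ : Subgroup N) := by
    rcases (inferInstance : (⁅(⊤ : Subgroup N), (⊤ : Subgroup N)⁆ : Subgroup N).Normal).eq_bot_or_eq_top with h1 | h1
    · exact absurd ⟨⟨fun x y => (commutator_eq_bot_iff_le_centralizer.1 h1 (mem_top y) x (mem_top x))⟩⟩ hn
    · exact h1
  have h2 := congrArg (Subgroup.map N.subtype) h1
  rwa [map_commutator, ← MonoidHom.range_eq_map, range_subtype] at h2

theorem Sim.prf {N : Subgroup G} (h : Sim T H N) : Prf T H N :=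
  ⟨h.le, h.nrm, perf_of_simple h.simple h.nonab, h.cent⟩

theorem Mul.prf {𝓢 : Set (Subgroup G)} (h : Mul T H 𝓢) : Prf T H (sSup 𝓢) where
  le := sSup_le h.le
  nrm a ha x hx := by
    have h1 : TH.cj a (sSup 𝓢) ≤ sSup 𝓢 := by
      rw [map_le_iff_le_comap]
      exact sSup_le fun S hS y hy => le_sSup (h.perm a ha S hS) (conj_mem_cj a hy)
    exact h1 (conj_mem_cj a hx)
  perf := le_antisymm (commutator_le.2 fun a ha b hb => by
      rw [commutatorElement_def]
      exact mul_mem (mul_mem (mul_mem ha hb) (inv_mem ha)) (inv_mem hb)) (sSup_le fun S hS => by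
    rw [← perf_of_simple (h.simple S hS) (h.nonab S hS)]
    exact commutator_mono (le_sSup hS) (le_sSup hS))
  cent t ht h1 := h.cent t ht fun S hS x hx => h1 x (le_sSup hS hx)

/-- the automorphisms of `T` induced by `H` -/
def Gm (hT : T.Normal) (H : Subgroup G) : Subgroup (MulAut T) := H.map (MulAut.conjNormal (H := T))

theorem conjNormal_inj (h : DS.Setup T H) : Function.Injective (@MulAut.conjNormal G _ T h.normal) := by
  have := h.normal
  refine (injective_iff_map_eq_one _).2 fun g hg => ?_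
  rw [← mem_bot, ← h.cent]
  intro x hx
  have h1 := congrArg Subtype.val (DFunLike.congr_fun hg ⟨x, hx⟩)
  rw [MulAut.conjNormal_apply] at h1
  exact (mul_inv_eq_iff_eq_mul.1 h1).symm

theorem mem_Gm (h : DS.Setup T H) {g : G} : @MulAut.conjNormal G _ T h.normal g ∈ Gm h.normal H ↔ g ∈ H :=
  mem_map_iff_mem (conjNormal_inj h)

theorem mi_of (h : DS.Setup T H) (h0 : H ⊓ T ≠ ⊥) : MI (H.subgroupOf T) (Gm h.normal H) where
  max B hB hi := by
    have := h.normal
    have hn : H ≤ normalizer ((B.map T.subtype : Subgroup G) : Set G) := fun a ha => by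
      have k : ∀ a ∈ H, ∀ x ∈ B.map T.subtype, a * x * a⁻¹ ∈ B.map T.subtype := by
        rintro a ha _ ⟨x, hx, rfl⟩
        exact ⟨_, hi _ ((mem_Gm h).2 ha) x hx, rfl⟩
      exact mem_normalizer_iff.2 fun x => ⟨k a ha x, fun hx => by simpa only [mul_assoc, _root_.Subgroup.mem_map, _root_.Subgroup.subtype_apply, _root_.Subtype.exists, _root_.exists_and_right, _root_.exists_eq_right, _root_.inv_mul_cancel_left, _root_.inv_inv, _root_.inv_mul_cancel, _root_.mul_one] using k a⁻¹ (inv_mem ha) _ hx⟩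
    have key : ∀ t : T, (t : G) ∈ H ⊔ B.map T.subtype → t ∈ B := fun t ht => by
      have h1 : (t : G) ∈ ((B.map T.subtype ⊔ H : Subgroup G) : Set G) := by rwa [sup_comm]
      rw [coe_mul_of_right_le_normalizer_left _ _ hn] at h1
      obtain ⟨_, ⟨b, hb, rfl⟩, a, ha, e⟩ := h1
      have h2 : (b⁻¹ * t : T) ∈ H.subgroupOf T := by
        show ((b : G)⁻¹ * t) ∈ H
        rw [← e]
        simpa using ha
      simpa using B.mul_mem hb (hB h2)
    by_cases h1 : B.map T.subtype ≤ H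
    · exact Or.inl (le_antisymm (fun b hb => h1 ⟨b, hb, rfl⟩) hB)
    · exact Or.inr (eq_top_iff.2 fun t _ => key t (h.coatom.2 _ (left_lt_sup.2 h1) ▸ mem_top _))
  ne_top k := h.not_le (subgroupOf_eq_top.1 k)
  ne_bot k := h0 (disjoint_iff.1 (subgroupOf_eq_bot.1 k))
  conj a := by
    have := h.normal
    have e : MulAut.conj a = MulAut.conjNormal (H := T) (a : G) := by
      ext x
      simp only [_root_.MulAut.conj_apply, _root_.Subgroup.coe_mul, _root_.InvMemClass.coe_inv, _root_.MulAut.conjNormal_apply]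
    rw [e, mem_Gm h, mem_subgroupOf]
  inv := by
    rintro _ ⟨g, hg, rfl⟩ a
    show g * a * g⁻¹ ∈ H ↔ (a : G) ∈ H
    exact ⟨fun k => by simpa only [mul_assoc, _root_.inv_mul_cancel_left, _root_.inv_mul_cancel, _root_.mul_one] using H.mul_mem (H.mul_mem (H.inv_mem hg) k) hg,
      fun k => H.mul_mem (H.mul_mem hg k) (H.inv_mem hg)⟩

theorem Cx.mi (C : Cx p T H) : MI (H.subgroupOf T) (Gm C.setup.normal H) := mi_of C.setup C.ne_bot

/-- an `H`-invariant proper subgroup of `T` lies in `H` -/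
theorem le_of_inv (h : DS.Setup T H) {B : Subgroup G} (hB : B ≤ T) (hne : B ≠ T)
    (hi : ∀ a ∈ H, ∀ x ∈ B, a * x * a⁻¹ ∈ B) : B ≤ H := by
  by_contra h1
  have h2 : H ⊔ B = ⊤ := h.coatom.2 _ (left_lt_sup.2 h1)
  have hn : H ≤ normalizer (B : Set G) := fun a ha =>
    mem_normalizer_iff.2 fun x => ⟨hi a ha x, fun hx => by simpa only [mul_assoc, _root_.inv_mul_cancel_left, _root_.inv_inv, _root_.inv_mul_cancel, _root_.mul_one] using hi a⁻¹ (inv_mem ha) _ hx⟩
  have h3 : B.Normal := normalizer_eq_top_iff.1 (eq_top_iff.2 (h2.ge.trans (sup_le hn le_normalizer)))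
  have := h.simple
  rcases (h3.subgroupOf T).eq_bot_or_eq_top with k | k
  · exact h1 ((inf_eq_left.2 hB).symm.trans (disjoint_iff.1 (subgroupOf_eq_bot.1 k)) ▸ bot_le)
  · exact hne (le_antisymm hB (subgroupOf_eq_top.1 k))

theorem card_A : Nat.card (H.subgroupOf T) = Nat.card ↥(H ⊓ T) := by
  rw [← inf_subgroupOf_right]
  exact Nat.card_congr (subgroupOfEquivOfLe inf_le_right).toEquiv

/-- the basic criterion -/
theorem gd_of_cn [Finite G] {a : T} (ha : (a : G) ∈ H) {c : ℕ} (h : cn a ≤ c)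
    (hc : c ^ 3 * Nat.card ↥(H ⊓ T) ≤ Nat.card T) : Gd T H :=
  good_of_cn (A := H.subgroupOf T) ha h (by rwa [card_A])

/-- `H ⊓ T` embeds in the automorphism group of `R` -/
theorem Prf.card_le [Finite G] {R : Subgroup G} (h : Prf T H R) : Nat.card ↥(H ⊓ T) ≤ Nat.card (MulAut R) := by
  have hn : H ⊓ T ≤ normalizer (R : Set G) := fun a ha =>
    mem_normalizer_iff.2 fun x => ⟨h.nrm a ha.1 x, fun hx => by simpa only [mul_assoc, _root_.inv_mul_cancel_left, _root_.inv_inv, _root_.inv_mul_cancel, _root_.mul_one] using h.nrm a⁻¹ (inv_mem ha.1) _ hx⟩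
  refine Nat.card_le_card_of_injective (R.normalizerMonoidHom.comp (inclusion hn))
    ((injective_iff_map_eq_one _).2 fun a ha => Subtype.ext (h.cent a a.2.2 fun x hx => ?_))
  have h1 := congrArg Subtype.val (DFunLike.congr_fun ha ⟨x, hx⟩)
  exact mul_inv_eq_iff_eq_mul.1 h1

end basic

section bridge

variable {K : Type} [Group K] [Finite K] [IsSimpleGroup K]

theorem conj_inj (hn : ¬ IsMulCommutative K) : Function.Injective (MulAut.conj : K →* MulAut K) := by
  rcases (MulAut.conj : K →* MulAut K).normal_ker.eq_bot_or_eq_top with h | h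
  · exact (MonoidHom.ker_eq_bot_iff _).1 h
  · refine absurd ⟨⟨fun a b => ?_⟩⟩ hn
    have h1 : a ∈ (MulAut.conj : K →* MulAut K).ker := h ▸ mem_top a
    exact mul_inv_eq_iff_eq_mul.1 (DFunLike.congr_fun (MonoidHom.mem_ker.1 h1) b)

/-- **the bridge**: the hypothesis of `N2.Par.asRow_of` -/
theorem cx_row {p : ℕ} [Fact p.Prime] (hn : ¬ IsMulCommutative K)
    (h : ∀ (G : Type) [Group G] [Finite G] (T H : Subgroup G), Nonempty (T ≃* K) → Cx p T H → Gd T H)
    (A : Subgroup K) (Γ : Subgroup (MulAut K)) (hA : MI A Γ)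
    (hO : ∀ E : Subgroup K, N2.Inv Γ E → IsPGroup p E → E = ⊥) (hi : p ∣ A.index) : Good A := by
  have hj := conj_inj hn
  have hN : (Inn K).Normal := ⟨by
    rintro _ ⟨t, rfl⟩ σ
    exact ⟨σ t, by ext x; simp only [_root_.MulAut.conj_apply, _root_.MulAut.mul_apply, _root_.MulAut.inv_apply, _root_.map_mul, _root_.MulEquiv.apply_symm_apply, _root_.map_inv]⟩⟩
  let G := ↥(Inn K ⊔ Γ)
  let T : Subgroup G := (Inn K).subgroupOf (Inn K ⊔ Γ)
  let H : Subgroup G := Γ.subgroupOf (Inn K ⊔ Γ)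
  let e : K ≃* T := (MonoidHom.ofInjective hj).trans (subgroupOfEquivOfLe le_sup_left).symm
  have he : ∀ x : K, (((e x : T) : G) : MulAut K) = MulAut.conj x := fun _ => rfl
  have hc : (H.subgroupOf T).comap e.toMonoidHom = A := by
    ext x
    exact hA.conj x
  have hs : DS.Setup T H := by
    refine ⟨hN.subgroupOf _, e.symm.isSimpleGroup, fun k => hn ⟨⟨fun a b => e.injective ?_⟩⟩, ?_, ?_, fun k => ?_⟩
    · rw [map_mul, map_mul]
      exact k.1.1 _ _
    · refine eq_bot_iff.2 fun g hg => mem_bot.2 (Subtype.ext (MulEquiv.ext fun x => hj ?_))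
      have h1 := congrArg Subtype.val (hg (e x) (e x).2)
      have h2 : MulAut.conj x * (g : MulAut K) = (g : MulAut K) * MulAut.conj x := h1
      have h3 : MulAut.conj ((g : MulAut K) x) = (g : MulAut K) * MulAut.conj x * (g : MulAut K)⁻¹ := by
        ext y
        simp only [_root_.MulAut.conj_apply, _root_.MulAut.mul_apply, _root_.MulAut.inv_apply, _root_.map_mul, _root_.MulEquiv.apply_symm_apply, _root_.map_inv]
      rw [h3, ← h2, mul_inv_cancel_right]
      rfl
    · have h1 := mi_covBy hA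
      refine ⟨fun k => h1.1.not_ge (subgroupOf_eq_top.1 k), fun B hB => ?_⟩
      have h2 : Γ < B.map (Inn K ⊔ Γ).subtype := by
        have h4 := (map_lt_map_iff_of_injective (Inn K ⊔ Γ).subtype_injective).2 hB
        rwa [map_subgroupOf_eq_of_le (le_sup_right : Γ ≤ Inn K ⊔ Γ)] at h4
      have h3 := (h1.eq_or_eq h2.le (map_subtype_le B)).resolve_left h2.ne'
      exact eq_top_iff.2 fun g _ => (mem_map_iff_mem (Inn K ⊔ Γ).subtype_injective).1 (h3.symm ▸ g.2)
    · exact hA.ne_top (eq_top_iff.2 fun x _ => (hA.conj x).1 (k (e x).2))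
  have hC : Cx p T H := by
    refine ⟨hs, fun k => hA.ne_bot (eq_bot_iff.2 fun x hx => ?_), fun Q hQ hP hH => ?_, ?_⟩
    · have h1 : ((e x : T) : G) ∈ H ⊓ T := ⟨(hA.conj x).2 hx, (e x).2⟩
      rw [k, mem_bot] at h1
      exact mem_bot.2 (e.injective (Subtype.ext (by rw [h1, map_one]; rfl)))
    · have h1 := hO ((Q.subgroupOf T).comap e.toMonoidHom) (fun σ hσ x hx => by
        have h2 := (mem_normalizer_iff.1 (hH (show (⟨σ, mem_sup_right hσ⟩ : G) ∈ H from hσ)) _).1 hx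
        have h3 : ((e (σ x) : T) : G) = ⟨σ, mem_sup_right hσ⟩ * (e x : T) * (⟨σ, mem_sup_right hσ⟩ : G)⁻¹ :=
          Subtype.ext (by
            show MulAut.conj (σ x) = σ * MulAut.conj x * σ⁻¹
            ext y
            simp only [_root_.MulAut.conj_apply, _root_.MulAut.mul_apply, _root_.MulAut.inv_apply, _root_.map_mul, _root_.MulEquiv.apply_symm_apply, _root_.map_inv])
        show ((e (σ x) : T) : G) ∈ Q
        rwa [h3]) ((hP.comap_of_injective _ T.subtype_injective).comap_of_injective _ e.injective)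
      refine eq_bot_iff.2 fun x hx => ?_
      have h2 : e.symm ⟨x, hQ hx⟩ ∈ (Q.subgroupOf T).comap e.toMonoidHom := by
        show ((e (e.symm ⟨x, hQ hx⟩) : T) : G) ∈ Q
        rwa [e.apply_symm_apply]
      rw [h1, mem_bot, map_eq_one_iff _ e.symm.injective] at h2
      exact mem_bot.2 (congrArg Subtype.val h2)
    · rwa [← hc, index_comap_of_surjective _ e.surjective] at hi
  have h1 := (good_comap e.toMonoidHom e.surjective _).2 (h G T H ⟨e.symm⟩ hC)
  rwa [hc] at h1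

end bridge

section tri

variable {G : Type} [Group G] [Finite G] {T H : Subgroup G}

/-- the minimal `H`-invariant subgroups of `H ⊓ T` -/
def MinA (T H N : Subgroup G) : Prop :=
  N ≤ H ⊓ T ∧ N ≠ ⊥ ∧ (∀ h ∈ H, TH.cj h N = N) ∧ ∀ M : Subgroup G, M ≤ N → (∀ h ∈ H, TH.cj h M = M) → M = ⊥ ∨ M = N

theorem exists_minA {Z : Subgroup G} (h1 : Z ≤ H ⊓ T) (h0 : Z ≠ ⊥) (h2 : ∀ h ∈ H, TH.cj h Z = Z) :
    ∃ N, N ≤ Z ∧ MinA T H N := by
  obtain ⟨N, ⟨hNZ, hNn, hN0⟩, hmin⟩ := WellFounded.has_min (wellFounded_lt (α := Subgroup G))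
    {N : Subgroup G | N ≤ Z ∧ (∀ h ∈ H, TH.cj h N = N) ∧ N ≠ ⊥} ⟨Z, le_rfl, h2, h0⟩
  refine ⟨N, hNZ, hNZ.trans h1, hN0, hNn, fun K hKN hK => ?_⟩
  by_cases h3 : K = ⊥
  · exact Or.inl h3
  · exact Or.inr (eq_of_le_of_not_lt hKN (hmin K ⟨hKN.trans hNZ, hK, h3⟩))

theorem MinA.exists_simple {N : Subgroup G} (h : MinA T H N) :
    ∃ S : Subgroup G, S ≤ N ∧ (∀ x ∈ N, TH.cj x S = S) ∧ IsSimpleGroup S := by
  have hN : N ≤ H := h.1.trans inf_le_left
  have h1 : (N.subgroupOf H).Normal := ⟨fun x hx a => nm_conj (K := N) (h.2.2.1 a a.2) hx⟩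
  obtain ⟨-, s, -, -, ⟨S, hS⟩, -, -, h2⟩ := Lib.MinNormal.exists_set_decomposition (N.subgroupOf H)
    (fun e => h.2.1 (by rw [← Subgroup.map_subgroupOf_eq_of_le hN, e, Subgroup.map_bot])) fun M hM hMN => by
      rcases h.2.2.2 (M.map H.subtype) (Subgroup.map_le_iff_le_comap.2 hMN) (fun a ha => nm_of_conj (by
        rintro _ ⟨x, hx, rfl⟩
        exact ⟨_, hM.conj_mem x hx ⟨a, ha⟩, rfl⟩)) with h3 | h3
      · exact Or.inl ((Subgroup.map_eq_bot_iff_of_injective _ H.subtype_injective).1 h3)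
      · exact Or.inr (by rw [← h3]; exact (Subgroup.comap_map_eq_self_of_injective H.subtype_injective M).symm)
  obtain ⟨h3, -, h4, -, h5⟩ := h2 S hS
  refine ⟨S.map H.subtype, Subgroup.map_le_iff_le_comap.2 h3, fun x hx => nm_of_conj ?_,
    (S.equivMapOfInjective H.subtype H.subtype_injective).symm.isSimpleGroup⟩
  rintro _ ⟨y, hy, rfl⟩
  exact ⟨_, (Subgroup.mem_normalizer_iff.1 (h4 (show (⟨x, hN hx⟩ : H) ∈ N.subgroupOf H from hx)) y).1 hy, rfl⟩

theorem comm_of_inf {S R : Subgroup G} (h1 : ∀ x ∈ S, TH.cj x R = R) (h2 : ∀ x ∈ R, TH.cj x S = S) (h : S ⊓ R = ⊥) :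
    ∀ x ∈ S, ∀ y ∈ R, x * y = y * x := fun _ hx _ hy =>
  Lib.MinNormal.commute_of_disjoint (fun a ha => nm_iff.2 (h1 a ha)) (fun a ha => nm_iff.2 (h2 a ha))
    (disjoint_iff.2 h) hx hy

theorem inf_eq_bot_or_le {S R : Subgroup G} [IsSimpleGroup S] (h : ∀ x ∈ S, TH.cj x R = R) : S ⊓ R = ⊥ ∨ S ≤ R := by
  have h1 : (R.subgroupOf S).Normal := ⟨fun x hx a => nm_conj (K := R) (h a a.2) hx⟩
  rcases h1.eq_bot_or_eq_top with h2 | h2
  · exact Or.inl (disjoint_iff.1 (Subgroup.subgroupOf_eq_bot.1 h2).symm)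
  · exact Or.inr (Subgroup.subgroupOf_eq_top.1 h2)

/-- the simple factors -/
def Fac (T H : Subgroup G) : Set (Subgroup G) :=
  {S | IsSimpleGroup S ∧ ∃ N, MinA T H N ∧ S ≤ N ∧ ∀ x ∈ N, TH.cj x S = S}

theorem Fac.comm {S R : Subgroup G} (hS : S ∈ Fac T H) (hR : R ∈ Fac T H) (hne : S ≠ R) :
    ∀ x ∈ S, ∀ y ∈ R, x * y = y * x := by
  obtain ⟨s1, N, hN, s2, s3⟩ := hS
  obtain ⟨r1, M, hM, r2, r3⟩ := hR
  by_cases h : N = M
  · subst h
    refine comm_of_inf (fun x hx => r3 x (s2 hx)) (fun x hx => s3 x (r2 hx)) ?_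
    rcases inf_eq_bot_or_le (S := S) (R := R) fun x hx => r3 x (s2 hx) with h1 | h1
    · exact h1
    rcases inf_eq_bot_or_le (S := R) (R := S) fun x hx => s3 x (r2 hx) with h2 | h2
    · rwa [inf_comm]
    · exact absurd (le_antisymm h1 h2) hne
  · have h1 : N ⊓ M = ⊥ := by
      rcases hN.2.2.2 (N ⊓ M) inf_le_left fun a ha => nm_inf (hN.2.2.1 a ha) (hM.2.2.1 a ha) with h1 | h1
      · exact h1
      · exact absurd ((hM.2.2.2 N (h1 ▸ inf_le_right) hN.2.2.1).resolve_left hN.2.1) h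
    exact fun x hx y hy => comm_of_inf (fun a ha => hM.2.2.1 a (hN.1 ha).1) (fun a ha => hN.2.2.1 a (hM.1 ha).1) h1
      x (s2 hx) y (r2 hy)

theorem Fac.cj {S : Subgroup G} (hS : S ∈ Fac T H) {h : G} (hh : h ∈ H) : TH.cj h S ∈ Fac T H := by
  obtain ⟨s1, N, hN, s2, s3⟩ := hS
  exact ⟨(S.equivMapOfInjective _ (MulAut.conj h).injective).symm.isSimpleGroup, N, hN,
    (cj_mono h s2).trans (hN.2.2.1 h hh).le, fun x hx => nm_cj_iff.2 (s3 _ (nm_conj' (hN.2.2.1 h hh) hx))⟩

theorem Fac.le {S : Subgroup G} (hS : S ∈ Fac T H) : S ≤ H ⊓ T :=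
  let ⟨_, _, hN, s2, _⟩ := hS
  s2.trans hN.1

/-- **the trichotomy** -/
theorem tri (hT : DS.Setup T H) (h0 : H ⊓ T ≠ ⊥) :
    (∃ E r, DS.Loc T H E r) ∨ (∃ N, Sim T H N) ∨ ∃ 𝓢, Mul T H 𝓢 := by
  have := hT.normal
  by_cases hab : ∃ A : Subgroup G, A ≤ T ∧ H ≤ normalizer (A : Set G) ∧ A ≠ ⊥ ∧ ∀ x ∈ A, ∀ y ∈ A, x * y = y * x
  · obtain ⟨A, h1, h2, h3, h4⟩ := hab
    obtain ⟨E, r, -, h⟩ := DS.Gen.exists_loc hT h1 h2 h3 h4
    exact Or.inl ⟨E, r, h⟩
  right
  have hne : ∀ S ∈ Fac T H, S ≠ ⊥ := fun S hS => by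
    have := hS.1
    exact (Subgroup.nontrivial_iff_ne_bot S).1 inferInstance
  have hna : ∀ S ∈ Fac T H, ¬ IsMulCommutative S := fun S hS hc => by
    let C : Set G := {x | ∃ h ∈ H, x ∈ TH.cj h S}
    have h1 : ∀ x ∈ C, ∀ y ∈ C, x * y = y * x := by
      rintro x ⟨a, ha, hx⟩ y ⟨b, hb, hy⟩
      by_cases h : TH.cj a S = TH.cj b S
      · rw [← h] at hy
        obtain ⟨x, hx, rfl⟩ := hx
        obtain ⟨y, hy, rfl⟩ := hy
        rw [← map_mul, ← map_mul]
        exact congrArg _ (congrArg Subtype.val (hc.1.comm ⟨x, hx⟩ ⟨y, hy⟩))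
      · exact Fac.comm (Fac.cj hS ha) (Fac.cj hS hb) h x hx y hy
    refine hab ⟨Subgroup.closure C, (Subgroup.closure_le _).2 ?_, fun a ha => nm_iff.2 (nm_of_le ?_), fun h => hne S hS ?_,
      fun x hx y hy => ?_⟩
    · rintro x ⟨a, ha, hx⟩
      exact (Fac.le (Fac.cj hS ha) hx).2
    · rw [cj_closure]
      refine Subgroup.closure_mono ?_
      rintro _ ⟨x, ⟨b, hb, hx⟩, rfl⟩
      exact ⟨a * b, mul_mem ha hb, by rw [cj_mul]; exact conj_mem_cj a hx⟩
    · rw [eq_bot_iff, ← h]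
      exact fun x hx => Subgroup.subset_closure ⟨1, one_mem _, by rwa [cj_one]⟩
    · have h2 : Subgroup.closure C ≤ Subgroup.centralizer (Subgroup.closure C : Set G) := by
        rw [Subgroup.centralizer_closure, Subgroup.closure_le]
        exact fun x hx y hy => h1 y hy x hx
      exact h2 hy x hx
  have hex : ∀ Z : Subgroup G, Z ≤ H ⊓ T → Z ≠ ⊥ → (∀ h ∈ H, TH.cj h Z = Z) → ∃ S ∈ Fac T H, S ≤ Z := fun Z h1 h2 h3 => by
    obtain ⟨N, h4, hN⟩ := exists_minA h1 h2 h3
    obtain ⟨S, h5, h6, h7⟩ := hN.exists_simple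
    exact ⟨S, ⟨h7, N, hN, h5, h6⟩, h5.trans h4⟩
  obtain ⟨S₀, hS₀, -⟩ := hex _ le_rfl h0 fun h hh => nm_of_conj fun x hx =>
    ⟨H.mul_mem (H.mul_mem hh hx.1) (H.inv_mem hh), hT.normal.conj_mem x hx.2 h⟩
  have hcent : ∀ t ∈ T, (∀ S ∈ Fac T H, ∀ x ∈ S, t * x = x * t) → t = 1 := by
    let C : Subgroup G := T ⊓ Subgroup.centralizer {x | ∃ S ∈ Fac T H, x ∈ S}
    have h1 : ∀ h ∈ H, ∀ c ∈ C, h * c * h⁻¹ ∈ C := fun h hh c hc => ⟨hT.normal.conj_mem c hc.1 h, by
      rintro x ⟨S, hS, hx⟩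
      have h2 := hc.2 (h⁻¹ * x * h⁻¹⁻¹) ⟨_, Fac.cj hS (inv_mem hh), conj_mem_cj _ hx⟩
      calc x * (h * c * h⁻¹) = h * (h⁻¹ * x * h⁻¹⁻¹ * c) * h⁻¹ := by group
        _ = h * c * h⁻¹ * x := by rw [h2]; group⟩
    have h2 : C = ⊥ := by
      by_contra h0
      have h3 : C ≤ H := le_of_inv hT inf_le_left (fun k => by
        obtain ⟨x, hx, hx1⟩ := (Subgroup.bot_or_exists_ne_one S₀).resolve_left (hne S₀ hS₀)
        refine hx1 (mem_bot.1 (hT.cent ▸ fun t ht => ?_))
        have h4 : t ∈ C := k.symm ▸ ht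
        exact (h4.2 x ⟨S₀, hS₀, hx⟩).symm) h1
      obtain ⟨S, hS, h4⟩ := hex C (le_inf h3 inf_le_left) h0 fun h hh => nm_of_conj (h1 h hh)
      exact hna S hS ⟨⟨fun x y => Subtype.ext ((h4 y.2).2 x ⟨S, hS, x.2⟩)⟩⟩
    intro t ht h
    rw [← Subgroup.mem_bot, ← h2]
    exact ⟨ht, by rintro x ⟨S, hS, hx⟩; exact (h S hS x hx).symm⟩
  by_cases h2 : (Fac T H).Nontrivial
  · exact Or.inr ⟨Fac T H, fun S hS => Fac.le hS, fun S hS => hS.1, hna, fun S hS R hR => Fac.comm hS hR,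
      fun h hh S hS => Fac.cj hS hh, h2, hcent⟩
  · have h3 : ∀ S ∈ Fac T H, S = S₀ := fun S hS => Set.not_nontrivial_iff.1 h2 hS hS₀
    exact Or.inl ⟨S₀, Fac.le hS₀, fun h hh x hx => nm_conj (h3 _ (Fac.cj hS₀ hh)) hx, hS₀.1, hna S₀ hS₀,
      fun t ht h => hcent t ht fun S hS => h3 S hS ▸ h⟩

end tri

end Cfsg.Agent.N2.Ex
end

-- part: N2/Ex/Mu/Gp
section
set_option linter.all false
open scoped Cfsg.Agent.FastGrp

/-!
# N2, exceptional groups, several components: the order of `A = H ⊓ T` (helper9)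
-/

set_option autoImplicit false
set_option linter.unusedSectionVars false

namespace Cfsg.Agent.N2.Ex.Mu.Gp

open Subgroup Cfsg.Agent.FP3 Cfsg.Agent.TH Cfsg.Agent.TH.Own

variable {G : Type} [Group G] [Finite G] {T H : Subgroup G} {𝓢 : Set (Subgroup G)}

theorem card_le_fib {X : Type} [Finite X] (A C : Subgroup G) (f : A → X) (h : ∀ a b, f a = f b → (a : G)⁻¹ * b ∈ C) :
    Nat.card A ≤ Nat.card X * Nat.card C := by
  rw [← Nat.card_prod]
  refine Nat.card_le_card_of_injective (fun a => (f a, (⟨_, h _ a (Function.invFun_eq (f := f) ⟨a, rfl⟩)⟩ : C))) fun a b e => ?_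
  have h1 := Subtype.mk.inj (Prod.mk.inj e).2
  rw [(Prod.mk.inj e).1] at h1
  exact Subtype.ext (mul_left_cancel h1)

/-- the subgroup of `A` which normalises all components -/
def A0 (T H : Subgroup G) (𝓢 : Set (Subgroup G)) : Subgroup G := H ⊓ T ⊓ ⨅ S : 𝓢, normalizer ((S : Subgroup G) : Set G)

theorem card_A0 (h : Mul T H 𝓢) [Fintype 𝓢] : Nat.card (A0 T H 𝓢) ∣ ∏ S : 𝓢, Nat.card (MulAut (S : Subgroup G)) := by
  rw [← Nat.card_pi]
  refine card_dvd_of_injective (MonoidHom.pi fun S : 𝓢 => (S : Subgroup G).normalizerMonoidHom.comp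
    (inclusion (inf_le_right.trans (iInf_le _ S)))) ((injective_iff_map_eq_one _).2 fun a ha => Subtype.ext
      (h.cent a a.2.1.2 fun S hS x hx => ?_))
  exact mul_inv_eq_iff_eq_mul.1 (congrArg Subtype.val (DFunLike.congr_fun (congrFun ha ⟨S, hS⟩) (⟨x, hx⟩ : S)))

/-- the action on the components -/
def act (h : Mul T H 𝓢) : ↥(H ⊓ T) →* Equiv.Perm 𝓢 where
  toFun a := ⟨fun S => ⟨TH.cj a S, h.perm a a.2.1 S S.2⟩, fun S => ⟨TH.cj (a : G)⁻¹ S, h.perm _ (inv_mem a.2.1) S S.2⟩,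
    fun S => Subtype.ext (cj_inv_cj _ _), fun S => Subtype.ext (by
      have := cj_inv_cj (a : G)⁻¹ (S : Subgroup G)
      rwa [inv_inv] at this)⟩
  map_one' := Equiv.ext fun S => Subtype.ext (cj_one _)
  map_mul' a b := Equiv.ext fun S => Subtype.ext (cj_mul _ _ _)

theorem ker_act (h : Mul T H 𝓢) : (act h).ker = (A0 T H 𝓢).subgroupOf (H ⊓ T) := by
  ext a
  exact ⟨fun k => ⟨a.2, mem_iInf.2 fun S => nm_iff.2 (congrArg Subtype.val (DFunLike.congr_fun k S))⟩,
    fun k => Equiv.ext fun S => Subtype.ext (nm_iff.1 (mem_iInf.1 k.2 S))⟩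

/-- **all components**: `|A|` divides `|P| ∏ |Aut S|` if `A` acts on the components as a subgroup of `P` -/
theorem card_dvd (h : Mul T H 𝓢) [Fintype 𝓢] {P : Subgroup (Equiv.Perm 𝓢)} (hP : (act h).range ≤ P) :
    Nat.card ↥(H ⊓ T) ∣ Nat.card P * ∏ S : 𝓢, Nat.card (MulAut (S : Subgroup G)) := by
  rw [← (act h).ker.index_mul_card, index_ker, ker_act]
  exact mul_dvd_mul (card_dvd_of_le hP)
    ((Nat.card_congr (subgroupOfEquivOfLe (H := A0 T H 𝓢) (K := H ⊓ T) inf_le_left).toEquiv).dvd.trans (card_A0 h))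

theorem cn_eq (a : T) : cn a = Nat.card ↥(T ⊓ centralizer {(a : G)}) := by
  rw [cn, ← card_map_of_injective T.subtype_injective]
  congr 2
  ext x
  exact ⟨fun ⟨y, h1, h2⟩ => h2 ▸ ⟨y.2, mem_centralizer_singleton_iff.2 (congrArg Subtype.val (mem_centralizer_singleton_iff.1 h1))⟩,
    fun h => ⟨⟨x, h.1⟩, mem_centralizer_singleton_iff.2 (Subtype.ext (mem_centralizer_singleton_iff.1 h.2)), rfl⟩⟩

theorem cen_one (h : Mul T H 𝓢) {S : Subgroup G} (hS : S ∈ 𝓢) {x : G} (hx : x ∈ S) (hc : ∀ y ∈ S, y * x = x * y) : x = 1 := by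
  have := h.simple S hS
  rcases (inferInstance : (center S).Normal).eq_bot_or_eq_top with k | k
  · have k1 : (⟨x, hx⟩ : S) ∈ center _ := mem_center_iff.2 fun y => Subtype.ext (hc y y.2)
    rw [k, mem_bot] at k1
    exact Subtype.mk.inj k1
  · exact absurd ⟨⟨fun a b => mem_center_iff.1 (k.ge (mem_top b)) a⟩⟩ (h.nonab S hS)

end Cfsg.Agent.N2.Ex.Mu.Gp

private theorem dce_dbcca4e12a6b : _root_.True := by
  try have : _root_.True := by simp only [_root_.Cfsg.Agent.N2.cn.eq_1]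
  exact _root_.True.intro
end

-- part: N2/Cl/Size
section
prune_inst 0x10104d405462100000000590810000207000040000000000828001000108800200008040008000000000000000000020009800004000000000000400000404011090000400000000000000000000000000000000000000000000000000000000200000000
set_option linter.all false
open scoped Cfsg.Agent.FastGrp

-- part: N2/Cl/Kind
section
/-!
# N2 classical: every form ring is of one of the four kinds (helper89)

`SI e` star preserving isomorphisms, `fm F e` the transported form structure, `exists_kind`.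
-/

set_option autoImplicit false
set_option linter.unusedSectionVars false
set_option maxHeartbeats 200000

namespace Cfsg.Agent.N2C.Size

open Cfsg Cfsg.Agent.DS.Cl Cfsg.Agent.DS.Cl.Fwd Module
open Cfsg.Agent.SB.Cl (IsU IsSp IsO)

variable {A B : Type} [Ring A] [StarRing A] [Ring B] [StarRing B]

/-- `e` preserves the involution -/
def SI (e : A ≃+* B) : Prop := ∀ a, e (star a) = star (e a)

theorem SI.symm {e : A ≃+* B} (h : SI e) : SI e.symm := fun b => e.injective (by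
  rw [h, e.apply_symm_apply, e.apply_symm_apply])

theorem SI.mem_Lmin {e : A ≃+* B} (h : SI e) {x : A} : e x ∈ Lmin B ↔ x ∈ Lmin A :=
  ⟨fun ⟨b, hb⟩ => ⟨e.symm b, e.injective (by rw [map_sub, h, e.apply_symm_apply, hb])⟩,
    fun ⟨a, ha⟩ => ⟨e a, by rw [ha, map_sub, h]⟩⟩

theorem SI.mem_Lmax {e : A ≃+* B} (h : SI e) {x : A} : e x ∈ Lmax B ↔ x ∈ Lmax A := by
  change star (e x) = -e x ↔ star x = -x
  rw [← h, ← map_neg, e.injective.eq_iff]

/-- the transported form structure -/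
def fm (F : FR A) {e : A ≃+* B} (h : SI e) : FR B where
  l := e F.l
  L := F.L.comap e.symm.toAddMonoidHom
  l_add := by rw [← h, ← map_add, F.l_add, map_one]
  par := F.par.imp (fun k => AddSubgroup.ext fun x => by rw [k]; exact h.symm.mem_Lmin)
    fun k => AddSubgroup.ext fun x => by rw [k]; exact h.symm.mem_Lmax

variable {F : FR A} {e : A ≃+* B} (h : SI e)

theorem mem_fm_L {x : A} : e x ∈ (fm F h).L ↔ x ∈ F.L := by
  change e.symm (e x) ∈ F.L ↔ _
  rw [e.symm_apply_apply]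

theorem fm_L_max (k : F.L = Lmax A) : (fm F h).L = Lmax B :=
  AddSubgroup.ext fun x => by change e.symm x ∈ F.L ↔ _; rw [k]; exact h.symm.mem_Lmax

theorem mem_fm_Iso {u : Aˣ} : Units.mapEquiv e.toMulEquiv u ∈ (fm F h).Iso ↔ u ∈ F.Iso := by
  change e u * star (e u) = 1 ∧ e u * e F.l * star (e u) - e F.l ∈ (fm F h).L ↔ _
  rw [← h, ← map_mul, ← map_mul, ← map_mul, ← map_sub, mem_fm_L, map_eq_one_iff _ e.injective]
  rfl

theorem map_Iso : F.Iso.map (Units.mapEquiv e.toMulEquiv).toMonoidHom = (fm F h).Iso := by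
  ext v
  obtain ⟨u, rfl⟩ := (Units.mapEquiv e.toMulEquiv).surjective v
  exact (Subgroup.mem_map_iff_mem (Units.mapEquiv e.toMulEquiv).injective).trans (mem_fm_Iso h).symm

theorem card_fm_Iso : Nat.card (fm F h).Iso = Nat.card F.Iso := by
  rw [← map_Iso h]
  exact Subgroup.card_map_of_injective (Units.mapEquiv e.toMulEquiv).injective

theorem card_fm_L : Nat.card (fm F h).L = Nat.card F.L :=
  (Nat.card_congr (e.toEquiv.subtypeEquiv fun _ => (mem_fm_L h).symm)).symm

omit [StarRing A] [StarRing B] in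
theorem mem_center_map (e : A ≃+* B) {x : A} : e x ∈ Subring.center B ↔ x ∈ Subring.center A := by
  simp only [Subring.mem_center_iff]
  exact ⟨fun k a => e.injective (by rw [map_mul, map_mul, k]), fun k b => by
    obtain ⟨a, rfl⟩ := e.surjective b
    rw [← map_mul, ← map_mul, k]⟩

/-- the kinds with a form -/
def Kd {K V : Type} [Field K] [Finite K] [AddCommGroup V] [Module K V] [Finite V] (h : HF K V) (F : FR h.EB) : Prop :=
  (IsU h ∧ F.L = Lmax _) ∨ IsSp h F ∨ ∃ Q : QuadraticForm K V, IsO h F Q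

section hf

variable {K V : Type} [Field K] [Finite K] [AddCommGroup V] [Module K V] [Finite V] (h : HF K V) (F : FR h.EB)

theorem star_scal (c : K) : star (h.eb (c • 1)) = h.eb (h.τ c • 1) := h.ap_ext fun y => h.ext_right fun u => by
  rw [h.b_star]
  change h.b (c • u) y = h.b u (h.τ c • y)
  rw [h.smul_left, h.smul_right, h.τ_τ]

theorem scal_add (c d : K) : h.eb (c • 1) + h.eb (d • 1) = h.eb ((c + d) • 1) := (add_smul c d (1 : End K V)).symm

theorem scal_mul (c d : K) : h.eb (c • 1) * h.eb (d • 1) = h.eb ((c * d) • 1) := h.ap_ext fun v => (mul_smul c d v).symm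

theorem scal_one : h.eb ((1 : K) • 1) = 1 := one_smul K (1 : End K V)

/-- bilinear forms -/
theorem kd_of_bilin (hτ : ∀ c, h.τ c = c) (hs : (∀ u v, h.b v u = h.b u v) ∨ ∀ u v, h.b v u = -h.b u v) :
    IsSp h F ∨ ∃ Q : QuadraticForm K V, IsO h F Q := by
  have hO : F.L = Lmin _ → (∀ u v, h.b v u = h.b u v) → ∃ Q : QuadraticForm K V, IsO h F Q := fun hL hb => by
    let β : V →ₗ[K] V →ₗ[K] K := LinearMap.mk₂ K (fun u v => h.b u (h.ap F.l v)) (fun _ _ _ => h.add_left _ _ _)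
      (fun _ _ _ => h.smul_left _ _ _) (fun _ _ _ => by rw [map_add, h.add_right])
      fun _ _ _ => by rw [map_smul, h.smul_right, hτ, smul_eq_mul]
    refine ⟨LinearMap.BilinMap.toQuadraticMap β, hτ, fun u v => ?_, hL, fun _ => rfl⟩
    rw [LinearMap.BilinMap.polar_toQuadraticMap]
    change _ = h.b u (h.ap F.l v) + h.b v (h.ap F.l u)
    rw [hb (h.ap F.l u), ← h.b_star, ← h.add_right, ← h.ap_add, F.l_add, h.ap_one]
  by_cases h2 : (2 : K) = 0
  · have hb : ∀ u v, h.b v u = h.b u v := hs.elim id fun k u v => by linear_combination k u v - h.b u v * h2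
    refine F.par.symm.imp (fun hL => ⟨hτ, fun v => ?_, hL⟩) fun hL => hO hL hb
    have h3 : h.b v v = h.b v (h.ap (F.l + star F.l) v) := by rw [F.l_add, h.ap_one]
    rw [h.ap_add, h.add_right, h.b_star, hb v (h.ap F.l v)] at h3
    linear_combination h3 + h.b v (h.ap F.l v) * h2
  · have h3 : h.eb ((2 : K)⁻¹ • 1) + star (h.eb ((2 : K)⁻¹ • 1)) = 1 := by
      rw [star_scal, hτ, scal_add, ← two_mul, mul_inv_cancel₀ h2, scal_one]
    have hL := F.L_eq (h.smul_mem_center _) h3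
    refine hs.symm.imp (fun hb => ⟨hτ, fun v => ?_, hL⟩) fun hb =>
      hO (hL.trans (Lmin_eq_Lmax (h.smul_mem_center _) h3).symm) hb
    have h4 : 2 * h.b v v = 0 := by linear_combination hb v v
    exact (mul_eq_zero.1 h4).resolve_left h2

theorem exists_half_U {h : HF K V} (hU : IsU h) : ∃ c : K, c + h.τ c = 1 :=
  ClassicalGeometry.InvolutiveNorm.exists_add_sigma_eq (fun k => hU.2.elim fun c hc => hc (by rw [k]; rfl)) h.τ_τ
    (map_one h.τ)

theorem L_eq_U {h : HF K V} (hU : IsU h) (F : FR h.EB) : F.L = Lmax _ ∧ Lmin h.EB = Lmax _ := by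
  obtain ⟨c, hc⟩ := exists_half_U hU
  have h3 : h.eb (c • 1) + star (h.eb (c • 1)) = 1 := by rw [star_scal, scal_add, hc, scal_one]
  exact ⟨F.L_eq (h.smul_mem_center _) h3, Lmin_eq_Lmax (h.smul_mem_center _) h3⟩

end hf

/-- **the four kinds** -/
theorem exists_kind [Finite A] (ss : SS A) (F : FR A) :
    (∃ (K : Type) (_ : Field K) (_ : Fintype K) (n : ℕ) (e : A ≃+* LR (Fin n) K), 0 < n ∧ SI e) ∨
    ∃ (K : Type) (_ : Field K) (_ : Fintype K) (n : ℕ) (h : HF K (Fin n → K)) (e : A ≃+* h.EB) (he : SI e),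
      0 < n ∧ Kd h (fm F he) := by
  rcases exists_model ss with ⟨K, _, _, n, π, hn, hπ⟩ | ⟨K, _, _, n, e, σ, b, hn, hσ, hσ2, hb, hs, hadj⟩ |
    ⟨K, _, _, n, e, b, hn, hb, hs, hadj⟩
  · left
    let m : End K (Fin n → K) ≃ₐ[K] Matrix (Fin n) (Fin n) K := LinearMap.toMatrixAlgEquiv'
    let f : A →+* LR (Fin n) K :=
      { toFun := fun a => LR.mk (m (π a)) (m (π (star a))).transpose
        map_one' := by rw [star_one, map_one, map_one, Matrix.transpose_one, LR.one_eq]
        map_mul' := fun a b => by rw [LR.mk_mul, star_mul, map_mul, map_mul, map_mul, map_mul, Matrix.transpose_mul]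
        map_zero' := by rw [star_zero, map_zero, map_zero, Matrix.transpose_zero, LR.zero_eq]
        map_add' := fun a b => by rw [LR.mk_add, star_add, map_add, map_add, map_add, map_add, Matrix.transpose_add] }
    have hf : Function.Bijective f := by
      refine ⟨fun a b k => hπ.1 (Prod.ext (m.injective (congrArg Prod.fst k))
        (m.injective (Matrix.transpose_injective (congrArg Prod.snd k)))), fun x => ?_⟩
      obtain ⟨a, ha⟩ := hπ.2 (m.symm x.1, m.symm x.2.transpose)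
      refine ⟨a, Prod.ext ?_ ?_⟩
      · exact (congrArg m (congrArg Prod.fst ha)).trans (m.apply_symm_apply _)
      · exact (congrArg Matrix.transpose ((congrArg m (congrArg Prod.snd ha)).trans (m.apply_symm_apply _))).trans
          (Matrix.transpose_transpose _)
    refine ⟨K, _, inferInstance, n, RingEquiv.ofBijective f hf, hn, fun a => ?_⟩
    change LR.mk _ (m (π (star (star a)))).transpose = star (LR.mk _ _)
    rw [LR.star_mk, star_star, Matrix.transpose_transpose]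
  · right
    let h : HF K (Fin n → K) :=
      { τ := σ, ε := 1, b := fun u v => b v u, add_left := fun _ _ _ => map_add _ _ _,
        smul_left := fun _ _ _ => map_smul _ _ _, swap := fun u v => by rw [one_mul, hb.eq], τ_τ := hσ2,
        nondeg := hs }
    have he : SI (B := h.EB) e := fun a => h.ap_ext fun y => h.ext_right fun u => by
      rw [h.b_star]
      change b (e (star a) y) u = b y (e a u)
      rw [hadj, star_star]
    have hU : IsU h := ⟨rfl, ClassicalGeometry.InvolutiveNorm.exists_sigma_ne hσ⟩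
    exact ⟨K, _, inferInstance, n, h, e, he, hn, Or.inl ⟨hU, (L_eq_U hU _).1⟩⟩
  · right
    obtain ⟨ε, hε, hε'⟩ : ∃ ε : K, (ε = 1 ∨ ε = -1) ∧ ∀ u v, b u v = ε * b v u := hb.elim
      (fun k => ⟨1, Or.inl rfl, fun u v => by rw [k, one_mul]⟩) fun k => ⟨-1, Or.inr rfl, fun u v => by rw [k, neg_one_mul]⟩
    let h : HF K (Fin n → K) :=
      { τ := RingHom.id K, ε := ε, b := fun u v => b v u, add_left := fun _ _ _ => map_add _ _ _,
        smul_left := fun _ _ _ => map_smul _ _ _, swap := fun u v => hε' u v, τ_τ := fun _ => rfl, nondeg := hs }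
    have he : SI (B := h.EB) e := fun a => h.ap_ext fun y => h.ext_right fun u => by
      rw [h.b_star]
      change b (e (star a) y) u = b y (e a u)
      rw [hadj, star_star]
    exact ⟨K, _, inferInstance, n, h, e, he, hn, Or.inr (kd_of_bilin h _ (fun _ => rfl)
      (hb.imp (fun k u v => k v u) fun k u v => k v u))⟩

end Cfsg.Agent.N2C.Size
end

-- part: N2/Cl/Size
section
/-!
# N2 classical: orders of the form parameter and of the isometry group (helper89)

* `card_sym_mul` : `|Sym| |Lmin| = |A|`;  `card_L_LR`, `card_L_U`, `card_L_Sp`, `card_L_O`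
* `card_Iso_LR`, `card_Iso_U`, `card_Iso_Sp`, `card_Iso_O` (exact), `iso_le_*` (bounds), `card_Iso_le` (every form ring)
-/

set_option autoImplicit false
set_option linter.unusedSectionVars false
set_option maxHeartbeats 200000

namespace Cfsg.Agent.N2C.Size

open Cfsg Cfsg.Agent.DS.Cl Cfsg.Agent.DS.Cl.Fwd Module
open Cfsg.Agent.SB.Cl (IsU IsSp IsO)

/-! ### numbers -/

/-- `|Sp_{2m}(q)|` -/
def oS (m q : ℕ) : ℕ := q ^ (m ^ 2) * ∏ i ∈ Finset.range m, (q ^ (2 * (i + 1)) - 1)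

/-- `|GU_n(q)|` -/
def oU (n q : ℕ) : ℕ := q ^ (n * (n - 1) / 2) * ∏ i ∈ Finset.range n, (if Even i then q ^ (i + 1) + 1 else q ^ (i + 1) - 1)

/-- `|O⁺_{2k+2}(q)|` -/
def oP (k q : ℕ) : ℕ := 2 * q ^ ((k + 1) * k) * (q ^ (k + 1) - 1) * ∏ i ∈ Finset.range k, (q ^ (2 * (i + 1)) - 1)

/-- `|O⁻_{2k+2}(q)|` -/
def oM (k q : ℕ) : ℕ := 2 * q ^ ((k + 1) * k) * (q ^ (k + 1) + 1) * ∏ i ∈ Finset.range k, (q ^ (2 * (i + 1)) - 1)

theorem prod_le (m q : ℕ) : ∏ i ∈ Finset.range m, (q ^ (2 * (i + 1)) - 1) ≤ q ^ (m * (m + 1)) := by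
  induction m with
  | zero => simp
  | succ m ih =>
    rw [Finset.prod_range_succ, show (m + 1) * (m + 1 + 1) = m * (m + 1) + 2 * (m + 1) by ring, pow_add]
    exact Nat.mul_le_mul ih (Nat.sub_le _ _)

theorem oS_le (m q : ℕ) : oS m q ≤ q ^ (m * (2 * m + 1)) := by
  rw [oS, show m * (2 * m + 1) = m ^ 2 + m * (m + 1) by ring, pow_add]
  exact Nat.mul_le_mul_left _ (prod_le m q)

theorem oP_le (k q : ℕ) : oP k q ≤ 2 * q ^ ((k + 1) * (2 * k + 1)) := by
  rw [oP, show (k + 1) * (2 * k + 1) = (k + 1) * k + (k + 1) + k * (k + 1) by ring, pow_add q (_ + _),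
    pow_add q (_ * _), ← mul_assoc, ← mul_assoc]
  exact Nat.mul_le_mul (Nat.mul_le_mul_left _ (Nat.sub_le _ _)) (prod_le k q)

theorem pm_le {q a b : ℕ} (hq : 1 ≤ q) (h : a ≤ b) : (q ^ a - 1) * (q ^ b + 1) ≤ q ^ (a + b) := by
  have h1 := Nat.pow_le_pow_right hq h
  have h2 : 1 ≤ q ^ a := Nat.one_le_pow _ _ hq
  obtain ⟨x, hx⟩ := Nat.exists_eq_add_of_le h2
  rw [hx] at h1
  rw [pow_add, hx, Nat.add_sub_cancel_left]
  linarith only [h1]

theorem oM_le {k q : ℕ} (hq : 1 ≤ q) (hk : 1 ≤ k) : oM k q ≤ 2 * q ^ ((k + 1) * (2 * k + 1)) := by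
  have key : ∀ j, (q ^ (k + 1) + 1) * ∏ i ∈ Finset.range (j + 1), (q ^ (2 * (i + 1)) - 1) ≤
      q ^ (k + 1 + (j + 1) * (j + 2)) := by
    intro j
    induction j with
    | zero => simpa only [mul_comm, add_comm, _root_.zero_add, _root_.Finset.range_one, _root_.Finset.prod_singleton, _root_.one_mul] using pm_le hq (show 2 ≤ k + 1 by omega)
    | succ j ih =>
      rw [Finset.prod_range_succ, ← mul_assoc,
        show k + 1 + (j + 1 + 1) * (j + 1 + 2) = k + 1 + (j + 1) * (j + 2) + 2 * (j + 1 + 1) by ring, pow_add q (_ + _)]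
      exact Nat.mul_le_mul ih (Nat.sub_le _ _)
  obtain ⟨j, rfl⟩ := Nat.exists_eq_add_of_le' hk
  rw [oM, mul_assoc, mul_assoc, show (j + 1 + 1) * (2 * (j + 1) + 1) =
    (j + 1 + 1) * (j + 1) + (j + 1 + 1 + (j + 1) * (j + 2)) by ring, pow_add q (_ * _)]
  exact Nat.mul_le_mul_left _ (Nat.mul_le_mul_left _ (key j))

theorem oU_succ (n q : ℕ) : oU (n + 1) q = oU n q * (q ^ n * if Even n then q ^ (n + 1) + 1 else q ^ (n + 1) - 1) := by
  have e : (n + 1) * (n + 1 - 1) / 2 = n * (n - 1) / 2 + n := by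
    rw [← Nat.choose_two_right, ← Nat.choose_two_right, Nat.choose_succ_succ', Nat.choose_one_right, add_comm]
  rw [oU, oU, Finset.prod_range_succ, e, pow_add]
  ring

theorem oU_le {q : ℕ} (hq : 1 ≤ q) (n : ℕ) : q * oU n q ≤ (q + 1) * q ^ (n ^ 2) := by
  have key : ∀ j, q * oU (2 * j + 1) q ≤ (q + 1) * q ^ ((2 * j + 1) ^ 2) := by
    intro j
    induction j with
    | zero => simp only [oU, mul_comm, _root_.MulZeroClass.zero_mul, _root_.zero_add, _root_.tsub_self, _root_.mul_one, _root_.Nat.zero_div, _root_.pow_zero, _root_.Finset.range_one, _root_.Finset.prod_singleton, _root_.Even.zero, ↓ _root_.reduceIte, _root_.pow_one, _root_.one_mul, _root_.one_pow, _root_.Std.le_refl]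
    | succ j ih =>
      have h1 := pm_le hq (show 2 * j + 1 + 1 ≤ 2 * j + 1 + 1 + 1 by omega)
      rw [show 2 * (j + 1) + 1 = 2 * j + 1 + 1 + 1 by ring, oU_succ, oU_succ, if_neg (by simp only [_root_.Nat.not_even_bit1, _root_.not_false_eq_true]),
        if_pos (show Even (2 * j + 1 + 1) from ⟨j + 1, by ring⟩), show (2 * j + 1 + 1 + 1) ^ 2 =
          (2 * j + 1) ^ 2 + ((2 * j + 1) + (2 * j + 1 + 1) + (2 * j + 1 + 1 + (2 * j + 1 + 1 + 1))) by ring,
        pow_add q ((2 * j + 1) ^ 2), pow_add q (2 * j + 1 + (2 * j + 1 + 1)), pow_add q (2 * j + 1) (2 * j + 1 + 1)]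
      calc _ = q * oU (2 * j + 1) q * (q ^ (2 * j + 1) * q ^ (2 * j + 1 + 1) *
            ((q ^ (2 * j + 1 + 1) - 1) * (q ^ (2 * j + 1 + 1 + 1) + 1))) := by ring
        _ ≤ _ := by
          rw [← mul_assoc (q + 1)]
          exact Nat.mul_le_mul ih (Nat.mul_le_mul_left _ h1)
  rcases Nat.even_or_odd' n with ⟨j, rfl | rfl⟩
  · rcases j with _ | j
    · simp only [oU, _root_.MulZeroClass.mul_zero, _root_.zero_tsub, _root_.Nat.zero_div, _root_.pow_zero, _root_.Finset.range_zero, _root_.Finset.prod_empty, _root_.mul_one, _root_.ne_eq, _root_.OfNat.ofNat_ne_zero, _root_.not_false_eq_true, _root_.zero_pow, _root_.le_add_iff_nonneg_right, _root_.zero_le]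
    · rw [show 2 * (j + 1) = 2 * j + 1 + 1 by ring, oU_succ, if_neg (by simp only [_root_.Nat.not_even_bit1, _root_.not_false_eq_true]), ← mul_assoc,
        show (2 * j + 1 + 1) ^ 2 = (2 * j + 1) ^ 2 + ((2 * j + 1) + (2 * j + 1 + 1)) by ring, pow_add q ((2 * j + 1) ^ 2),
        pow_add q (2 * j + 1) (2 * j + 1 + 1), ← mul_assoc (q + 1)]
      exact Nat.mul_le_mul (key j) (Nat.mul_le_mul_left _ (Nat.sub_le _ _))
  · exact key j

/-! ### the form parameter -/

section ring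

variable {A : Type} [Ring A] [StarRing A]

/-- the symmetric elements -/
def Sym (A : Type) [Ring A] [StarRing A] : AddSubgroup A where
  carrier := {x | star x = x}
  add_mem' := fun {a b} (ha : star a = a) (hb : star b = b) => show star (a + b) = a + b by rw [star_add, ha, hb]
  zero_mem' := star_zero A
  neg_mem' := fun {a} (ha : star a = a) => show star (-a) = -a by rw [star_neg, ha]

theorem card_sym_mul : Nat.card (Sym A) * Nat.card (Lmin A) = Nat.card A := by
  let f : A →+ A := AddMonoidHom.id A - starAddEquiv.toAddMonoidHom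
  have h1 : f.ker = Sym A := AddSubgroup.ext fun x => (sub_eq_zero (a := x) (b := star x)).trans eq_comm
  have h2 : f.range = Lmin A := AddSubgroup.ext fun x => exists_congr fun _ => eq_comm
  rw [← h1, ← h2, ← AddSubgroup.index_ker, AddSubgroup.card_mul_index]

/-- a central skew unit identifies symmetric and skew elements -/
theorem card_sym_eq {δ : Aˣ} (h1 : (δ : A) ∈ Subring.center A) (h2 : star (δ : A) = -δ) :
    Nat.card (Sym A) = Nat.card (Lmax A) :=
  Nat.card_congr ((Units.mulLeft δ).subtypeEquiv fun x => by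
    change star x = x ↔ star (δ * x) = -(δ * x)
    rw [star_mul, h2, mul_neg, cen_comm h1, neg_inj, Units.mul_right_inj])

end ring

section LR

variable {K : Type} [Field K] [Fintype K] {n : ℕ} (F : FR (LR (Fin n) K))

theorem L_LR : F.L = Lmax _ := F.L_eq (c := LR.mk 1 0) (Subring.mem_center_iff.2 fun g => by
  obtain ⟨a, b, rfl⟩ := LR.exists_mk g
  rw [LR.mk_mul, LR.mk_mul, mul_one, one_mul, mul_zero, zero_mul]) LR.half

theorem card_mat : Nat.card (Matrix (Fin n) (Fin n) K) = Fintype.card K ^ (n ^ 2) := by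
  change Nat.card (Fin n → Fin n → K) = _
  rw [Nat.card_fun, Nat.card_fun, Nat.card_eq_fintype_card, Nat.card_eq_fintype_card, Fintype.card_fin, ← pow_mul, sq]

theorem card_LR : Nat.card (LR (Fin n) K) = Fintype.card K ^ (2 * n ^ 2) := by
  change Nat.card (Matrix (Fin n) (Fin n) K × Matrix (Fin n) (Fin n) K) = _
  rw [Nat.card_prod, card_mat, ← pow_add, two_mul]

theorem card_L_LR : Nat.card F.L = Fintype.card K ^ (n ^ 2) := by
  rw [L_LR, ← card_mat]
  exact Nat.card_eq_of_bijective (fun x => x.1.1) ⟨fun x y h => Subtype.ext (Prod.ext h (Matrix.transpose_injective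
    ((congrArg Prod.fst x.2).trans ((congrArg Neg.neg h).trans (congrArg Prod.fst y.2).symm)))),
    fun a => ⟨⟨LR.mk a (-a.transpose), Prod.ext (show (-a.transpose).transpose = -a by simp)
      (show a.transpose = - -a.transpose by simp)⟩, rfl⟩⟩

theorem Iso_LR : F.Iso = (LR.gl (ι := Fin n) (F := K)).range :=
  Subgroup.ext fun u => ⟨fun h => (LR.mem_gl u).2 h.1, fun h => mem_Iso_max (L_LR F) ((LR.mem_gl u).1 h)⟩

theorem gl_inj : Function.Injective (LR.gl (ι := Fin n) (F := K)) := fun _ _ h =>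
  Units.ext (congrArg (fun u : (LR (Fin n) K)ˣ => (u : LR (Fin n) K).1) h)

theorem card_Iso_LR : Nat.card F.Iso = Nat.card (GL (Fin n) K) := by
  rw [Iso_LR]
  exact (Nat.card_congr (MonoidHom.ofInjective gl_inj).toEquiv).symm

theorem iso_le_LR : Nat.card F.Iso ≤ Nat.card F.L := by
  rw [card_Iso_LR, card_L_LR, ← card_mat]
  exact Nat.card_le_card_of_injective _ Units.val_injective

end LR

section hf

variable {K V : Type} [Field K] [Fintype K] [AddCommGroup V] [Module K V] [Finite V] {h : HF K V} {F : FR h.EB}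

theorem card_EB (h : HF K V) : Nat.card h.EB = Fintype.card K ^ (finrank K V ^ 2) := by
  change Nat.card (End K V) = _
  rw [Module.natCard_eq_pow_finrank (K := K), finrank_linearMap, Nat.card_eq_fintype_card, sq]

theorem card_L_U (hU : IsU h) {q : ℕ} (hq : Fintype.card K = q ^ 2) : Nat.card F.L = q ^ (finrank K V ^ 2) := by
  obtain ⟨c, hc⟩ := hU.2
  have h0 : c - h.τ c ≠ 0 := sub_ne_zero.2 hc.symm
  let δ : h.EBˣ := ⟨h.eb ((c - h.τ c) • 1), h.eb ((c - h.τ c)⁻¹ • 1), by rw [scal_mul, mul_inv_cancel₀ h0, scal_one],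
    by rw [scal_mul, inv_mul_cancel₀ h0, scal_one]⟩
  have h1 := card_sym_mul (A := h.EB)
  rw [card_sym_eq (δ := δ) (h.smul_mem_center _) ((star_scal h _).trans (by
    rw [map_sub, h.τ_τ, ← neg_sub]
    exact neg_smul _ (1 : End K V))), (L_eq_U hU F).2, ← (L_eq_U hU F).1, card_EB, hq, ← pow_mul, mul_comm 2, pow_mul,
    ← sq] at h1
  exact Nat.pow_left_injective two_ne_zero h1

/-- the number of operators with a symmetric form -/
theorem card_symm (hτ : ∀ c, h.τ c = c) : Nat.card {a : h.EB // ∀ u v, h.b u (h.ap a v) = h.b v (h.ap a u)} =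
    Fintype.card K ^ (finrank K V + 1).choose 2 := by
  classical
  let c := finBasis K V
  let β : h.EB → V →ₗ[K] V →ₗ[K] K := fun a => LinearMap.mk₂ K (fun u v => h.b u (h.ap a v)) (fun _ _ _ => h.add_left _ _ _)
    (fun _ _ _ => h.smul_left _ _ _) (fun _ _ _ => by rw [map_add, h.add_right])
    fun _ _ _ => by rw [map_smul, h.smul_right, hτ, smul_eq_mul]
  have h1 : Nat.card (Sym2 (Fin (finrank K V)) → K) = Fintype.card K ^ (finrank K V + 1).choose 2 := by
    rw [Nat.card_fun, Nat.card_eq_fintype_card, Nat.card_eq_fintype_card, Sym2.card, Fintype.card_fin]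
  rw [← h1, ← Nat.card_congr Sym2.lift]
  refine Nat.card_eq_of_bijective (fun a => ⟨fun i j => h.b (c i) (h.ap a.1 (c j)), fun i j => a.2 _ _⟩)
    ⟨fun a a' k => Subtype.ext (h.ap_ext fun v => h.ext_right fun u => ?_), fun M => ?_⟩
  · exact LinearMap.congr_fun₂ (show β a = β a' from LinearMap.ext_basis c c fun i j =>
      congrFun (congrFun (congrArg Subtype.val k) i) j) u v
  · obtain ⟨a, ha⟩ := h.exists_op hτ (Matrix.toBilin c (Matrix.of M.1))
    refine ⟨⟨a, fun u v => ?_⟩, Subtype.ext (funext₂ fun i j => ?_)⟩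
    · rw [ha, ha]
      exact LinearMap.congr_fun₂ (show Matrix.toBilin c (Matrix.of M.1) = (Matrix.toBilin c (Matrix.of M.1)).flip from
        LinearMap.ext_basis c c fun i j => by
          change _ = Matrix.toBilin c (Matrix.of M.1) (c j) (c i)
          rw [Matrix.toBilin_apply, Matrix.toBilin_apply]
          simp only [Finsupp.single_apply, M.2 i j, _root_.Module.Basis.repr_self, _root_.Matrix.of_apply, _root_.ite_mul, _root_.one_mul, _root_.MulZeroClass.zero_mul, _root_.mul_ite, _root_.mul_one, _root_.MulZeroClass.mul_zero, _root_.Finset.sum_ite_eq, _root_.Finset.mem_univ, ↓ _root_.reduceIte]) u v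
    · change h.b _ _ = _
      rw [ha, Matrix.toBilin_apply]
      simp only [Finsupp.single_apply, _root_.Module.Basis.repr_self, _root_.Matrix.of_apply, _root_.ite_mul, _root_.one_mul, _root_.MulZeroClass.zero_mul, _root_.mul_ite, _root_.mul_one, _root_.MulZeroClass.mul_zero, _root_.Finset.sum_ite_eq, _root_.Finset.mem_univ, ↓ _root_.reduceIte]

theorem alt_swap (hb : ∀ v, h.b v v = 0) (u v : V) : h.b u v = -h.b v u := by
  have h1 := hb (u + v)
  rw [h.add_left, h.add_right, h.add_right, hb, hb] at h1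
  linear_combination h1

theorem card_L_Sp (hS : IsSp h F) : Nat.card F.L = Fintype.card K ^ (finrank K V + 1).choose 2 := by
  rw [hS.2.2, ← card_symm hS.1]
  refine Nat.card_congr (Equiv.subtypeEquivRight fun a => ⟨fun k u v => ?_, fun k => ?_⟩)
  · rw [alt_swap hS.2.1 v, ← h.b_star, show star a = -a from k]
    change _ = -h.b u (-h.ap a v)
    rw [← zero_sub (h.ap a v), h.sub_right, h.zero_right, zero_sub, neg_neg]
  · refine h.ap_ext fun v => h.ext_right fun u => ?_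
    change _ = h.b u (-h.ap a v)
    rw [h.b_star, alt_swap hS.2.1, ← k, ← zero_sub (h.ap a v), h.sub_right, h.zero_right, zero_sub]

theorem card_L_O {Q : QuadraticForm K V} (hO : IsO h F Q) : Nat.card F.L = Fintype.card K ^ (finrank K V).choose 2 := by
  have hb : ∀ u v, h.b u v = h.b v u := fun u v => by rw [hO.2.1, hO.2.1, QuadraticMap.polar_comm]
  have h1 := card_sym_mul (A := h.EB)
  have h2 : Nat.card (Sym h.EB) = Fintype.card K ^ (finrank K V + 1).choose 2 := by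
    rw [← card_symm hO.1]
    refine Nat.card_congr (Equiv.subtypeEquivRight fun a => ⟨fun k u v => ?_, fun k => ?_⟩)
    · rw [hb v, ← h.b_star, show star a = a from k]
    · exact h.ap_ext fun v => h.ext_right fun u => by rw [h.b_star, hb, k]
  have e : finrank K V ^ 2 = (finrank K V + 1).choose 2 + (finrank K V).choose 2 := by
    generalize finrank K V = n
    induction n with
    | zero => rfl
    | succ n ih =>
      rw [Nat.choose_succ_succ' (n + 1), Nat.choose_succ_succ' n 1, Nat.choose_one_right, Nat.choose_one_right] at *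
      linarith only [ih]
  rw [h2, card_EB, e, pow_add, ← hO.2.2.1] at h1
  exact Nat.eq_of_mul_eq_mul_left (pow_pos Fintype.card_pos _) h1

theorem card_Iso_eq {X : Subgroup (V ≃ₗ[K] V)} (k : ∀ u : h.EBˣ, u ∈ F.Iso ↔ P5.toLE (RingEquiv.refl (End K V)) u ∈ X) :
    Nat.card F.Iso = Nat.card X := by
  obtain ⟨φ⟩ := P5.equiv_of (A := h.EB) (RingEquiv.refl (End K V)) k
  exact (Nat.card_congr φ.toEquiv).symm

theorem card_Iso_max (hL : F.L = Lmax _) : Nat.card F.Iso = Nat.card (Vec.Isom K h.b) :=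
  card_Iso_eq fun u => ⟨fun k => (h.unit_iff u).1 k.1, fun k => mem_Iso_max hL ((h.unit_iff u).2 k)⟩

theorem card_Iso_U (hU : IsU h) {q : ℕ} (hq : Fintype.card K = q ^ 2) : Nat.card F.Iso = oU (finrank K V) q := by
  have hσ : h.τ ≠ RingHom.id K := fun k => hU.2.elim fun c hc => hc (by rw [k]; rfl)
  obtain ⟨q', -, hq', hσq⟩ := H324.FC.exists_q (RingEquiv.ofRingHom h.τ h.τ (RingHom.ext h.τ_τ) (RingHom.ext h.τ_τ)) h.τ_τ
    hU.2
  have hσq' : ∀ x, h.τ x = x ^ q' := hσq
  rw [Nat.card_eq_fintype_card, hq] at hq'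
  obtain rfl : q = q' := Nat.pow_left_injective two_ne_zero hq'
  let b : V →ₛₗ[h.τ] V →ₗ[K] K :=
    { toFun := h.lin
      map_add' := fun _ _ => LinearMap.ext fun _ => h.add_right _ _ _
      map_smul' := fun _ _ => LinearMap.ext fun _ => h.smul_right _ _ _ }
  obtain ⟨c, hc⟩ := ClassicalGeometry.HermOrthonormal.exists_orthonormal_basis hσ h.τ_τ b
    ⟨fun x y => show h.τ (h.b y x) = h.b x y by rw [h.swap y x, hU.1, one_mul]⟩ h.nondeg
  obtain ⟨φ⟩ := Vec.exists_equiv c.equivFun.symm (hermForm _ K q) (fun v w => b w v) fun u v => by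
    simp only [Module.Basis.equivFun_symm_apply, map_sum, LinearMap.sum_apply, LinearMap.map_smulₛₗ, map_smul,
      LinearMap.smul_apply, hc, smul_eq_mul, mul_ite, mul_one, mul_zero, Finset.sum_ite_eq', Finset.mem_univ, if_true,
      hσq', hermForm]
  rw [card_Iso_max (L_eq_U hU F).1]
  exact (Nat.card_congr φ.toEquiv).symm.trans (S0277.result hq _)

theorem card_Iso_Sp (hS : IsSp h F) : ∃ m, finrank K V = 2 * m ∧ Nat.card F.Iso = oS m (Fintype.card K) := by
  let b : LinearMap.BilinForm K V := LinearMap.mk₂ K h.b h.add_left h.smul_left h.add_right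
    fun _ _ _ => by rw [h.smul_right, hS.1, smul_eq_mul]
  have hb : b.IsAlt := hS.2.1
  have hs : b.SeparatingLeft := fun v hv => h.nondeg v fun u => by rw [alt_swap hS.2.1, show h.b v u = 0 from hv u, neg_zero]
  obtain ⟨m, l, c, -, -, -, h4⟩ := Cfsg.Agent.S0752.result b hb
  have hl : l = 0 := by
    by_contra hl
    exact c.ne_zero _ (hs _ (h4 ⟨0, Nat.pos_of_ne_zero hl⟩))
  subst hl
  have hm : finrank K V = 2 * m := by
    rw [finrank_eq_card_basis c]
    simp only [two_mul, _root_.Fintype.card_sum, _root_.Fintype.card_fin, _root_.Fintype.card_eq_zero, _root_.add_zero, _root_.Nat.add_left_cancel_iff]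
  obtain ⟨e, he⟩ := ClassicalGeometry.SympIso.exists_linearEquiv_sympForm b hb hs hm
  obtain ⟨φ⟩ := Vec.exists_equiv e (sympForm m K) h.b he
  refine ⟨m, hm, ?_⟩
  rw [card_Iso_max hS.2.2, ← Nat.card_congr φ.toEquiv, oS, ← S0245.result (F := K) rfl m]
  let f : Matrix.symplecticGroup (Fin m) K →*
      preserving (Units.coeHom (Matrix (Fin m ⊕ Fin m) (Fin m ⊕ Fin m) K)) (sympForm m K) :=
    (Matrix.symplecticGroup (Fin m) K).subtype.toHomUnits.codRestrict _ fun x =>
      ClassicalGeometry.SympBasic.mem_symplecticGroup_iff.1 x.2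
  exact (Nat.card_eq_of_bijective f ⟨fun x y k => Subtype.ext (congrArg (fun z => z.1.1) k), fun g =>
    ⟨⟨g.1, ClassicalGeometry.SympBasic.mem_symplecticGroup_iff.2 g.2⟩, Subtype.ext (Units.ext rfl)⟩⟩).symm

open LieClassical.OrthCore in
theorem nondeg_O {Q : QuadraticForm K V} (hO : IsO h F Q) : Nondeg Q := fun x hx =>
  h.nondeg x fun y => by rw [hO.2.1, QuadraticMap.polar_comm, hx]

open LieClassical.OrthCore in
theorem card_Iso_O {Q : QuadraticForm K V} (hO : IsO h F Q) (h0 : 0 < finrank K V) :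
    (∃ m, finrank K V = 2 * m + 1 ∧ Odd (Fintype.card K) ∧ Nat.card F.Iso = 2 * oS m (Fintype.card K)) ∨
    ∃ k, finrank K V = 2 * (k + 1) ∧ (Nat.card F.Iso = oP k (Fintype.card K) ∨ Nat.card F.Iso = oM k (Fintype.card K)) := by
  have h1 : Nat.card F.Iso = Nat.card (O Q) := card_Iso_eq fun u => by
    rw [mem_O]
    exact SB.Tor.mem_Iso_O hO u
  have hQ := nondeg_O hO
  rcases Nat.even_or_odd' (finrank K V) with ⟨m, hm | hm⟩
  · obtain ⟨k, rfl⟩ := Nat.exists_eq_add_of_le' (show 1 ≤ m by omega)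
    refine Or.inr ⟨k, hm, ?_⟩
    rcases H174.exists_std (by omega) hm Q ⟨fun x hx => hQ x hx, fun x hx => hQ x fun y => by
      rw [QuadraticMap.polar_comm]; exact hx y⟩ with ⟨g, hg⟩ | ⟨ζ, g, hζ, hg⟩
    · obtain ⟨φ⟩ := Vec.O_equiv g _ Q one_ne_zero fun v => by rw [one_mul, hg]
      exact Or.inl (h1.trans ((Nat.card_congr φ.toEquiv).symm.trans (S0287.result rfl _ (by omega))))
    · obtain ⟨φ⟩ := Vec.O_equiv g _ Q one_ne_zero fun v => by rw [one_mul, hg]
      refine Or.inr (h1.trans ((Nat.card_congr φ.toEquiv).symm.trans (S0288.result rfl _ (by omega) 1 ζ ?_)))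
      intro z₁ z₂ k
      by_cases h2 : z₂ = 0
      · rw [h2] at k
        exact ⟨by simpa using k, h2⟩
      · refine absurd ?_ (hζ (z₁ / z₂))
        field_simp
        linear_combination k
  · obtain ⟨h2, c, hc, j, hj⟩ := H125.OrthLoc.exists_sim_odd hQ hm
    have hodd : Odd (Fintype.card K) :=
      Nat.odd_iff.2 (FiniteField.odd_card_of_char_ne_two fun k => h2 (by
        have := (ringChar.spec K 2).2 (by rw [k])
        exact_mod_cast this))
    obtain ⟨φ⟩ := Vec.O_equiv j.symm (quadFormOdd m K) Q hc fun v => by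
      rw [← LieClassical.QuadForms.coe_oddForm, ← hj, j.apply_symm_apply]
    refine Or.inl ⟨m, hm, hodd, h1.trans ((Nat.card_congr φ.toEquiv).symm.trans ?_)⟩
    rw [S0286.result rfl hodd, oS, mul_assoc]

theorem exists_q (hU : IsU h) : ∃ q, 2 ≤ q ∧ Fintype.card K = q ^ 2 := by
  obtain ⟨q, -, hq, -⟩ := H324.FC.exists_q (RingEquiv.ofRingHom h.τ h.τ (RingHom.ext h.τ_τ) (RingHom.ext h.τ_τ)) h.τ_τ hU.2
  rw [Nat.card_eq_fintype_card] at hq
  refine ⟨q, ?_, hq⟩
  have h1 : 1 < Fintype.card K := Fintype.one_lt_card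
  by_contra h2
  have : q ^ 2 ≤ 1 ^ 2 := Nat.pow_le_pow_left (by omega) 2
  omega

theorem iso_le_U (hU : IsU h) {q : ℕ} (hq : Fintype.card K = q ^ 2) : q * Nat.card F.Iso ≤ (q + 1) * Nat.card F.L := by
  rw [card_Iso_U hU hq, card_L_U hU hq]
  refine oU_le (Nat.pos_of_ne_zero ?_) _
  rintro rfl
  exact Fintype.card_ne_zero hq

theorem iso_le_Sp (hS : IsSp h F) : Nat.card F.Iso ≤ Nat.card F.L := by
  obtain ⟨m, h1, h2⟩ := card_Iso_Sp hS
  rw [h2, card_L_Sp hS, h1, Nat.choose_two_right, Nat.add_sub_cancel, mul_comm 2 m, ← mul_assoc,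
    Nat.mul_div_cancel _ two_pos, mul_comm _ m, mul_comm m 2]
  exact oS_le _ _

theorem iso_le_O {Q : QuadraticForm K V} (hO : IsO h F Q) (h0 : 0 < finrank K V) (h2 : finrank K V ≠ 2) :
    Nat.card F.Iso ≤ 2 * Nat.card F.L := by
  rw [card_L_O hO]
  rcases card_Iso_O hO h0 with ⟨m, h1, -, h3⟩ | ⟨k, h1, h3⟩
  · rw [h3, h1, Nat.choose_two_right, Nat.add_sub_cancel, mul_comm 2 m, ← mul_assoc,
      Nat.mul_div_cancel _ two_pos, mul_comm _ m, mul_comm m 2]
    exact Nat.mul_le_mul_left _ (oS_le _ _)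
  · rw [h1, Nat.choose_two_right, mul_assoc, Nat.mul_div_cancel_left _ two_pos, show 2 * (k + 1) - 1 = 2 * k + 1 by omega]
    rcases h3 with h3 | h3 <;> rw [h3]
    · exact oP_le _ _
    · exact oM_le Fintype.card_pos (by omega)

theorem iso_le_O2 {Q : QuadraticForm K V} (hO : IsO h F Q) (h2 : finrank K V = 2) :
    Nat.card F.Iso ≤ 2 * (Fintype.card K + 1) := by
  rcases card_Iso_O hO (by omega) with ⟨m, h1, -, -⟩ | ⟨k, h1, h3⟩
  · omega
  · obtain rfl : k = 0 := by omega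
    rcases h3 with h3 | h3 <;> simp only [h3, oP, oM, _root_.zero_add, _root_.MulZeroClass.mul_zero, _root_.pow_zero, _root_.mul_one, _root_.pow_one, _root_.Finset.range_zero, _root_.Finset.prod_empty, _root_.Order.lt_two_iff, _root_.zero_le, _root_.mul_le_mul_iff_right₀, _root_.tsub_le_iff_right, _root_.Std.le_refl]
    omega

end hf

/-! ### projective and conformal groups -/

section conf

variable {A : Type} [Ring A] [StarRing A] [Finite A]

/-- the central unitary elements -/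
def UC (A : Type) [Ring A] [StarRing A] : Subgroup Aˣ where
  carrier := {z | (z : A) ∈ Subring.center A ∧ (z : A) * star (z : A) = 1}
  one_mem' := ⟨one_mem _, by simp⟩
  mul_mem' := fun {a b} ha hb => ⟨mul_mem ha.1 hb.1, by
    rw [Units.val_mul, star_mul, mul_assoc, ← mul_assoc (b : A), hb.2, one_mul, ha.2]⟩
  inv_mem' := fun {a} ha => ⟨inv_cen ha.1, by
    rw [star_eq_inv ha.2, star_star, ← star_eq_inv ha.2, Units.inv_mul]⟩

theorem UC_le (F : FR A) : UC A ≤ F.Iso := fun z hz =>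
  FR.mem_Iso_of_cj hz.2 (by rw [cj_eq_one_iff.2 hz.1]; exact one_mem _)

theorem card_PI (F : FR A) : Nat.card F.PI * Nat.card (UC A) = Nat.card F.Iso := by
  let f : F.Iso →* RingAut A := (cj A).comp F.Iso.subtype
  have h1 : f.range = F.PI := by rw [MonoidHom.range_comp, Subgroup.range_subtype]; rfl
  have h2 : f.ker = (UC A).subgroupOf F.Iso :=
    Subgroup.ext fun u => cj_eq_one_iff.trans ⟨fun k => ⟨k, u.2.1⟩, fun k => k.1⟩
  rw [← h1, ← Subgroup.index_ker, ← Nat.card_congr (Subgroup.subgroupOfEquivOfLe (UC_le F)).toEquiv, ← h2,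
    Subgroup.index_mul_card]

theorem isField_C0 (ss : SS A) : IsField (C0 A) := by
  have := ss.1
  refine ⟨exists_pair_ne _, fun x y => Subtype.ext (cen_comm y.2.1 _), fun {x} hx => ?_⟩
  obtain ⟨u, hu⟩ := ss.isUnit_of_cen x.2.1 x.2.2 fun k => hx (Subtype.ext k)
  have h1 : star ((u⁻¹ : Aˣ) : A) = (u⁻¹ : Aˣ) := by
    refine Units.eq_inv_of_mul_eq_one_left ?_
    have h1 := congrArg star u.inv_mul
    rwa [star_mul, star_one, hu, x.2.2, ← hu] at h1
  have h2 : (x : A) * (u⁻¹ : Aˣ) = 1 := hu ▸ u.mul_inv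
  exact ⟨⟨(u⁻¹ : Aˣ), inv_cen (hu ▸ x.2.1), h1⟩, Subtype.ext h2⟩

/-- a similitude whose multiplier is a norm is an isometry up to a scalar -/
theorem mem_PI_of_norm (F : FR A) {g : Aˣ} (hg : cj A g ∈ F.Aut) {c : A} (hc : c ∈ Subring.center A)
    (h : star (g : A) * g = star c * c) : cj A g ∈ F.PI := by
  have h1 : IsUnit c := by
    have h2 : IsUnit (star c * c) := h ▸ (g.isUnit.star.mul g.isUnit)
    exact (IsUnit.mul_iff.1 h2).2
  obtain ⟨z, rfl⟩ := h1
  have h2 : cj A (g * z⁻¹) = cj A g := cj_eq_iff.2 ⟨z⁻¹, inv_cen hc, rfl⟩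
  refine ⟨g * z⁻¹, FR.mem_Iso_of_cj (mul_eq_one_comm.1 ?_) (h2 ▸ hg), h2⟩
  rw [Units.val_mul, star_mul, mul_assoc, ← mul_assoc (star (g : A)), h, mul_assoc, Units.mul_inv, mul_one, ← star_mul,
    Units.mul_inv, star_one]

theorem relIndex_PI (ss : SS A) (F : FR A) : F.PI.relIndex (F.Aut ⊓ Lin A) ∣ 2 := by
  classical
  have := ss.1
  let _ := (isField_C0 ss).toField
  have _ := Fintype.ofFinite (C0 A)
  have key : ∀ γ : ↥(F.Aut ⊓ Lin A), ∃ (g : Aˣ) (μ : C0 A), γ.1 = cj A g ∧ star (g : A) * g = μ ∧ μ ≠ 0 := fun γ => by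
    obtain ⟨g, hg⟩ := ss.sn γ.2.2
    refine ⟨g, ⟨_, cj_SAut_cen (hg ▸ F.Aut_le_SAut γ.2.1), by rw [star_mul, star_star]⟩, hg, rfl, fun k => ?_⟩
    exact (g.isUnit.star.mul g.isUnit).ne_zero (congrArg Subtype.val k)
  have sq : ∀ (g : Aˣ) (μ : C0 A), cj A g ∈ F.Aut → star (g : A) * g = μ → IsSquare μ → cj A g ∈ F.PI := by
    rintro g _ hg h ⟨c, rfl⟩
    exact mem_PI_of_norm F hg c.2.1 (by rw [h, c.2.2]; rfl)
  refine Subgroup.index_dvd_two_iff.2 ?_
  by_cases h : ∀ γ : ↥(F.Aut ⊓ Lin A), γ ∈ F.PI.subgroupOf _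
  · exact ⟨1, fun b => Or.inr (h b)⟩
  obtain ⟨a, ha⟩ := not_forall.1 h
  refine ⟨a, fun b => or_iff_not_imp_right.2 fun hb => ?_⟩
  obtain ⟨g, μ, h1, h2, h3⟩ := key a
  obtain ⟨g', μ', h4, h5, h6⟩ := key b
  rw [Subgroup.mem_subgroupOf] at ha hb ⊢
  have h7 : ¬ IsSquare μ := fun k => ha (h1 ▸ sq g μ (h1 ▸ a.2.1) h2 k)
  have h8 : ¬ IsSquare μ' := fun k => hb (h4 ▸ sq g' μ' (h4 ▸ b.2.1) h5 k)
  have h9 : ((b * a : ↥(F.Aut ⊓ Lin A)) : RingAut A) = cj A (g' * g) := by rw [map_mul, ← h1, ← h4]; rfl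
  rw [h9]
  refine sq _ (μ' * μ) (h9 ▸ (b * a).2.1) ?_ ?_
  · rw [Units.val_mul, star_mul, mul_assoc, ← mul_assoc (star (g' : A)), h5, ← mul_assoc, cen_comm μ'.2.1, mul_assoc, h2]
    rfl
  · rw [← quadraticChar_one_iff_isSquare (mul_ne_zero h6 h3), map_mul, quadraticChar_neg_one_iff_not_isSquare.2 h7,
      quadraticChar_neg_one_iff_not_isSquare.2 h8]
    rfl

/-- **the projective conformal group** -/
theorem card_conf_le (ss : SS A) (F : FR A) : Nat.card ↥(F.Aut ⊓ Lin A) * Nat.card (UC A) ≤ 2 * Nat.card F.Iso := by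
  have h1 := Subgroup.index_mul_card (F.PI.subgroupOf (F.Aut ⊓ Lin A))
  rw [Nat.card_congr (Subgroup.subgroupOfEquivOfLe (le_inf F.PI_le_Aut F.PI_le_Lin)).toEquiv] at h1
  rw [← h1, ← card_PI F, mul_assoc]
  exact Nat.mul_le_mul_right _ (Nat.le_of_dvd two_pos (relIndex_PI ss F))

end conf

end Cfsg.Agent.N2C.Size
end

private theorem dce_add95d2b2af1 : _root_.True := by
  try have : _root_.True := by simp only [_root_.Cfsg.Agent.N2C.Size.oS.eq_1]
  try have : _root_.True := by simp only [_root_.Cfsg.Agent.N2C.Size.oM.eq_1]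
  try have : _root_.True := by simp only [_root_.Cfsg.Agent.N2C.Size.oP.eq_1]
  try have : _root_.True := by simp only [_root_.Cfsg.Agent.N2C.Size.oU.eq_1]
  exact _root_.True.intro
end

-- part: N2/Cl/Res/Base
section
prune_inst 0x11107d440c40120000180080d1203c42a6000490004b0400c60000400c80cc4804818e61b1301005023a08c540390068108800c04000000000000800011c04811012000010000008840008000800000000000000000000000000000000000000200000000
set_option linter.all false
open scoped Cfsg.Agent.FastGrp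

/-!
# N2 (S3519), class S: from the form ring to a core of matrices, the part without forms (helper94)

* `I0 F = ⁅F.Iso, F.Iso⁆`; `lft F N`: `lft_le`, `cj_mem`, `exists_lft`, `lft_perfect`, `add_top`, `add_zero`;
* `card_B_dvd_aut`, `card_N_dvd_B`, `card_N_lt`; `cn_le_I0`; criteria `gd_of_cn`, `gd_of_I0`, `gd_iff_I0`;
* `Rep F K n`: a representation of the ring by matrices, `R.gl`, `R.P N`, `R.B H`, `R.G0`;
  `core`, `resCore`, `exists_soc`, `card_B_dvd_lin`, `card_cent`, `gd_iff`.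
-/

set_option autoImplicit false
set_option linter.unusedSectionVars false

namespace Cfsg.Agent.N2C.Res

open Cfsg Cfsg.Geo Cfsg.Agent.DS.Cl Cfsg.Agent.DS.Cl.Fwd Subgroup
open Cfsg.Agent.FP3 (Good MI)
open Cfsg.Agent.H915.LD (Core Soc toSoc tr SD Cj)
open Cfsg.Agent.H100.Ppd (conjSoc)

variable {A : Type} [Ring A] [StarRing A] {F : FR A} {H N : Subgroup (RingAut A)} {p : ℕ}

/-- the commutator group of the isometry group -/
abbrev I0 (F : FR A) : Subgroup Aˣ := ⁅F.Iso, F.Iso⁆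

theorem cj_mem_S {u : Aˣ} (hu : u ∈ I0 F) : cj A u ∈ F.S := ⟨u, hu, rfl⟩

theorem lft_le (F : FR A) (N : Subgroup (RingAut A)) : lft F N ≤ I0 F := commutator_mono inf_le_right inf_le_right

theorem lft_le_Iso (F : FR A) (N : Subgroup (RingAut A)) : lft F N ≤ F.Iso := (lft_le F N).trans F.comm_le_Iso

theorem cj_mem {u : Aˣ} (hu : u ∈ lft F N) : cj A u ∈ N :=
  (DS.Cl.dS_le (N.comap (cj A) ⊓ F.Iso) 1 hu).1

section res

variable (r : Res F H N)
include r

theorem le_S : N ≤ F.S := r.le.trans inf_le_right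

theorem le_H : N ≤ H := r.le.trans inf_le_left

theorem perfect : N ≤ ⁅N, N⁆ := perfect_of_simple r.simple r.noncomm

theorem exists_lft {x : RingAut A} (hx : x ∈ N) : ∃ u ∈ lft F N, cj A u = x := by
  have h1 : N ≤ (N.comap (cj A) ⊓ F.Iso).map (cj A) := fun t ht => by
    obtain ⟨u, hu, rfl⟩ := F.S_le_PI (le_S r ht)
    exact ⟨u, ⟨ht, hu⟩, rfl⟩
  have h2 := (perfect r).trans (commutator_mono h1 h1) hx
  rw [← map_commutator] at h2
  exact h2

theorem exists_mul {u : Aˣ} (hu : cj A u ∈ N) : ∃ v ∈ lft F N, ∃ z : Aˣ, (z : A) ∈ Subring.center A ∧ u = v * z := by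
  obtain ⟨v, hv, e⟩ := exists_lft r hu
  exact ⟨v, hv, cj_eq_iff.1 e.symm⟩

theorem lft_perfect : ⁅lft F N, lft F N⁆ = lft F N := by
  refine le_antisymm (DS.Cl.dS_le _ 1) (commutator_le.2 fun g hg h hh => ?_)
  obtain ⟨v, hv, z, hz, rfl⟩ := exists_mul r hg.1
  obtain ⟨v', hv', z', hz', rfl⟩ := exists_mul r hh.1
  rw [commutator_mul_cen hz hz']
  exact commutator_mem_commutator hv hv'

/-- the lifts span the ring additively -/
theorem add_top (W : AddSubgroup A) (h : ∀ u ∈ lft F N, (u : A) ∈ W) (a : A) : a ∈ W := by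
  have h1 : a ∈ Subring.closure ((fun u : Aˣ => (u : A)) '' lft F N) := by rw [r.span]; trivial
  rw [Subring.mem_closure_iff] at h1
  refine (AddSubgroup.closure_le W).2 (fun x hx => ?_) h1
  have h2 : Submonoid.closure ((fun u : Aˣ => (u : A)) '' lft F N) ≤ (lft F N).toSubmonoid.map (Units.coeHom A) :=
    Submonoid.closure_le.2 fun _ hx => hx
  obtain ⟨u, hu, rfl⟩ := h2 hx
  exact h u hu

theorem add_zero {M : Type*} [AddCommGroup M] (φ : A →+ M) (h : ∀ u ∈ lft F N, φ u = 0) (a : A) : φ a = 0 :=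
  add_top r φ.ker h a

/-- `N` has trivial centraliser in the linear automorphisms -/
theorem eq_one_of_cent {γ : RingAut A} (hl : γ ∈ Lin A) (h : ∀ x ∈ N, γ * x = x * γ) : γ = 1 := by
  ext a
  have h1 := add_zero r ((γ : A →+* A).toAddMonoidHom - AddMonoidHom.id A) (fun u hu => sub_eq_zero.2
    (Main.fix_lifts ((le_S r).trans F.S_le_PI) (perfect r) hl h u (lft_le_Iso F N hu) (cj_mem hu))) a
  exact sub_eq_zero.1 h1

theorem conj_lft (hH : H ≤ F.Aut) {γ : RingAut A} (hγ : γ ∈ H) {u : Aˣ} (hu : u ∈ lft F N) : um γ u ∈ lft F N := by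
  have h1 : (N.comap (cj A) ⊓ F.Iso).map (um γ) ≤ N.comap (cj A) ⊓ F.Iso := by
    rintro _ ⟨v, hv, rfl⟩
    exact ⟨mem_comap.2 (conj_cj γ v ▸ r.nrm γ hγ _ hv.1), FR.um_mem_Iso (hH hγ) hv.2⟩
  refine commutator_mono h1 h1 ?_
  rw [← map_commutator]
  exact ⟨u, hu, rfl⟩

theorem conj_lft' (hH : H ≤ F.Aut) {v u : Aˣ} (hv : cj A v ∈ H) (hu : u ∈ lft F N) : v * u * v⁻¹ ∈ lft F N := by
  have h1 : um (cj A v) u = v * u * v⁻¹ := Units.ext rfl
  exact h1 ▸ conj_lft r hH hv hu

/-- the action of `B = H ⊓ F.S` on `N` -/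
def actB : H.subgroupOf F.S →* MulAut N :=
  N.normalizerMonoidHom.comp (((F.S.subtype.comp (H.subgroupOf F.S).subtype)).codRestrict _ fun b => r.nrm.le_nz b.2)

theorem actB_inj : Function.Injective (actB r) := by
  rw [injective_iff_map_eq_one]
  intro b hb
  refine Subtype.ext (Subtype.ext (eq_one_of_cent r (F.PI_le_Lin (F.S_le_PI b.1.2)) fun x hx => ?_))
  have h1 : ((actB r b ⟨x, hx⟩ : N) : RingAut A) = b.1.1 * x * b.1.1⁻¹ := rfl
  rw [hb] at h1
  exact mul_inv_eq_iff_eq_mul.1 h1.symm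

/-- **`B` embeds in `Aut N`** -/
theorem card_B_dvd_aut : Nat.card (H.subgroupOf F.S) ∣ Nat.card (MulAut N) := card_dvd_of_injective _ (actB_inj r)

theorem card_N_dvd_B : Nat.card N ∣ Nat.card (H.subgroupOf F.S) := by
  rw [← Nat.card_congr (subgroupOfEquivOfLe (le_S r)).toEquiv]
  exact card_dvd_of_le fun _ hx => le_H r hx

variable [Finite A]

theorem card_B_le_aut : Nat.card (H.subgroupOf F.S) ≤ Nat.card (MulAut N) := by
  have : Finite (RingAut A) := Finite.of_injective (fun γ : RingAut A => (γ : A → A)) DFunLike.coe_injective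
  exact Nat.le_of_dvd Nat.card_pos (card_B_dvd_aut r)

theorem card_N_lt (c : Ctx F H p) : Nat.card N < Nat.card F.S := by
  have : Finite (RingAut A) := Finite.of_injective (fun γ : RingAut A => (γ : A → A)) DFunLike.coe_injective
  refine (card_le_of_le (le_S r)).lt_of_ne fun e => c.not_le ?_
  rw [← eq_of_le_of_card_ge (le_S r) e.ge]
  exact le_H r

/-- **criterion**, `|C_S(a)|³ |Aut N| ≤ |S|` -/
theorem gd_of_cn {a : F.S} (ha : (a : RingAut A) ∈ H) {k : ℕ} (h : N2.cn a ≤ k)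
    (hk : k ^ 3 * Nat.card (MulAut N) ≤ Nat.card F.S) : Gd F H := by
  have : Finite (RingAut A) := Finite.of_injective (fun γ : RingAut A => (γ : A → A)) DFunLike.coe_injective
  exact N2.good_of_cn (A := H.subgroupOf F.S) ha h ((Nat.mul_le_mul_left _ (card_B_le_aut r)).trans hk)

end res

section crit

variable [Finite A]

end crit

/-! ### matrices -/

/-- a representation of the ring by matrices, faithful on the isometry group -/
structure Rep (F : FR A) (K : Type) [Field K] (n : ℕ) where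
  /-- the representation -/
  ρ : A →+* Matrix (Fin n) (Fin n) K
  surj : Function.Surjective ρ
  inj : ∀ u ∈ F.Iso, ρ u = 1 → u = 1
  pos : 0 < n

namespace Rep

variable {K : Type} [Field K] {n : ℕ} (R : Rep F K n)

/-- the units -/
def gl : Aˣ →* GL (Fin n) K := Units.map (R.ρ : A →* Matrix (Fin n) (Fin n) K)

theorem gl_val (u : Aˣ) : (R.gl u : Matrix (Fin n) (Fin n) K) = R.ρ u := rfl

/-- the core -/
def P (N : Subgroup (RingAut A)) : Subgroup (GL (Fin n) K) := (lft F N).map R.gl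

/-- the quasisimple classical group -/
def G0 : Subgroup (GL (Fin n) K) := (I0 F).map R.gl

/-- the preimage of the point stabiliser -/
def B (H : Subgroup (RingAut A)) : Subgroup (GL (Fin n) K) := (H.comap (cj A) ⊓ I0 F).map R.gl

theorem gl_inj {u v : Aˣ} (hu : u ∈ F.Iso) (hv : v ∈ F.Iso) (h : R.gl u = R.gl v) : u = v := by
  have h1 : R.gl (u * v⁻¹) = 1 := by rw [map_mul, map_inv, h, mul_inv_cancel]
  exact mul_inv_eq_one.1 (R.inj _ (mul_mem hu (inv_mem hv)) (congrArg Units.val h1))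

theorem mat_cen {M : Matrix (Fin n) (Fin n) K} (h : ∀ a, M * R.ρ a = R.ρ a * M) : ∃ c : K, M = c • 1 := by
  have h1 : M ∈ Set.center (Matrix (Fin n) (Fin n) K) := by
    rw [Semigroup.mem_center_iff]
    intro g
    obtain ⟨a, rfl⟩ := R.surj g
    exact (h a).symm
  rw [Matrix.center_eq_range] at h1
  obtain ⟨c, rfl⟩ := h1
  exact ⟨c, by simp [Matrix.smul_one_eq_diagonal]⟩

theorem scalar_of_cen {z : Aˣ} (hz : (z : A) ∈ Subring.center A) : R.gl z ∈ scalars (Fin n) K := by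
  obtain ⟨c, hc⟩ := R.mat_cen (M := R.ρ z) fun a => by rw [← map_mul, ← map_mul, cen_comm hz]
  have hn : Nonempty (Fin n) := ⟨⟨0, R.pos⟩⟩
  have h0 : c ≠ 0 := fun e => (R.gl z).ne_zero (by rw [gl_val, hc, e, zero_smul])
  exact (mem_scalars_iff _).2 ⟨Units.mk0 c h0, hc⟩

theorem cen_of_scalar (hs : F.Span) {u : Aˣ} (hu : u ∈ F.Iso) (h : R.gl u ∈ scalars (Fin n) K) :
    (u : A) ∈ Subring.center A := by
  obtain ⟨c, hc⟩ := (mem_scalars_iff _).1 h
  refine cen_of_comm hs ?_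
  rintro _ ⟨v, hv, rfl⟩
  have hv' := F.comm_le_Iso hv
  refine congrArg Units.val (R.gl_inj (mul_mem hv' hu) (mul_mem hu hv') (Units.ext ?_))
  rw [map_mul, map_mul, Units.val_mul, Units.val_mul, hc, Matrix.mul_smul, Matrix.smul_mul, mul_one, one_mul]

/-- restriction to a subgroup of the isometry group -/
noncomputable def eqv {W : Subgroup Aˣ} (hW : W ≤ F.Iso) : W ≃* W.map R.gl :=
  MulEquiv.ofBijective (R.gl.subgroupMap W) ⟨fun u v h => Subtype.ext (R.gl_inj (hW u.2) (hW v.2) (congrArg Subtype.val h)),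
    R.gl.subgroupMap_surjective W⟩

theorem mem_map {W : Subgroup Aˣ} (hW : W ≤ F.Iso) {u : Aˣ} (hu : u ∈ F.Iso) : R.gl u ∈ W.map R.gl ↔ u ∈ W :=
  ⟨fun ⟨_, hv, e⟩ => R.gl_inj (hW hv) hu e ▸ hv, fun h => ⟨u, h, rfl⟩⟩

theorem P_le_B (r : Res F H N) : R.P N ≤ R.B H := map_mono fun _ hu => ⟨le_H r (cj_mem hu), lft_le F N hu⟩

theorem not_le_B (c : Ctx F H p) : ¬ R.G0 ≤ R.B H := fun h => c.not_le (by
  rintro _ ⟨v, hv, rfl⟩
  exact ((R.mem_map (inf_le_right.trans F.comm_le_Iso) (F.comm_le_Iso hv)).1 (h ⟨v, hv, rfl⟩)).1)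

theorem not_le_P (c : Ctx F H p) (r : Res F H N) : ¬ R.G0 ≤ R.P N := fun h => R.not_le_B c (h.trans (R.P_le_B r))

section res

variable (hs : F.Span) (r : Res F H N)
include r

theorem add_mat (W : AddSubgroup (Matrix (Fin n) (Fin n) K)) (h : ∀ g ∈ R.P N, (g : Matrix (Fin n) (Fin n) K) ∈ W)
    (M : Matrix (Fin n) (Fin n) K) : M ∈ W := by
  obtain ⟨a, rfl⟩ := R.surj M
  exact add_top r (W.comap R.ρ.toAddMonoidHom) (fun u hu => h _ ⟨u, hu, rfl⟩) a

theorem absIrr : ActsAbsolutelyIrreducibly (matrixSet (R.P N)) := by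
  refine ⟨fun W hW => ?_, fun M hM => R.mat_cen fun a => ?_⟩
  · let X : AddSubgroup (Matrix (Fin n) (Fin n) K) :=
      { carrier := {M | ∀ w ∈ W, M.mulVec w ∈ W}
        add_mem' := fun ha hb w hw => by rw [Matrix.add_mulVec]; exact W.add_mem (ha w hw) (hb w hw)
        zero_mem' := fun w _ => by rw [Matrix.zero_mulVec]; exact W.zero_mem
        neg_mem' := fun ha w hw => by rw [Matrix.neg_mulVec]; exact W.neg_mem (ha w hw) }
    have h1 := R.add_mat r X fun g hg w hw => hW _ ⟨g, hg, rfl⟩ ⟨w, hw, rfl⟩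
    by_cases h0 : W = ⊥
    · exact Or.inl h0
    obtain ⟨w, hw, hw0⟩ := Submodule.exists_mem_ne_zero_of_ne_bot h0
    obtain ⟨i, hi⟩ : ∃ i, w i ≠ 0 := Function.ne_iff.1 hw0
    refine Or.inr (eq_top_iff.2 fun v _ => ?_)
    have h2 := h1 (Matrix.of fun a b => if b = i then v a / w i else 0) w hw
    convert h2 using 1
    ext a
    simp only [Matrix.mulVec, dotProduct, hi, _root_.Matrix.of_apply, _root_.ite_mul, _root_.MulZeroClass.zero_mul, _root_.Finset.sum_ite_eq', _root_.Finset.mem_univ, ↓ _root_.reduceIte, _root_.isUnit_iff_ne_zero, _root_.ne_eq, _root_.not_false_eq_true, _root_.IsUnit.div_mul_cancel]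
  · let X : AddSubgroup (Matrix (Fin n) (Fin n) K) := (Subring.centralizer {M}).toAddSubgroup
    exact R.add_mat r X (fun g hg y hy => by rw [Set.mem_singleton_iff.1 hy]; exact hM _ ⟨g, hg, rfl⟩) _ M rfl

/-- the traces generate the field additively -/
theorem add_tr (W : AddSubgroup K) (h : ∀ g ∈ R.P N, tr g ∈ W) (x : K) : x ∈ W := by
  have h1 := R.add_mat r (W.comap (Matrix.traceAddMonoidHom (Fin n) K)) h (Matrix.single ⟨0, R.pos⟩ ⟨0, R.pos⟩ x)
  simpa only [_root_.AddSubgroup.mem_comap, _root_.Matrix.traceAddMonoidHom_apply, _root_.Matrix.trace_single_eq_same] using h1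

include hs

/-- **the socle of the core** -/
theorem exists_soc : ∃ e : Soc (R.P N) ≃* N, ∀ (u : Aˣ) (hu : u ∈ lft F N),
    (e (toSoc _ ⟨R.gl u, u, hu, rfl⟩) : RingAut A) = cj A u := by
  let f : lft F N →* N := ((cj A).comp (lft F N).subtype).codRestrict N fun u => cj_mem u.2
  let e : lft F N ≃* R.P N := R.eqv (lft_le_Iso F N)
  let π : R.P N →* N := f.comp e.symm.toMonoidHom
  have hπ : ∀ u : lft F N, π (e u) = f u := fun u => congrArg f (e.symm_apply_apply u)
  have h1 : Function.Surjective π := fun x => by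
    obtain ⟨u, hu, h⟩ := exists_lft r x.2
    exact ⟨e ⟨u, hu⟩, (hπ _).trans (Subtype.ext h)⟩
  have h2 : (scalars (Fin n) K).subgroupOf (R.P N) = π.ker := by
    ext g
    obtain ⟨u, rfl⟩ := e.surjective g
    rw [MonoidHom.mem_ker, hπ, Subtype.ext_iff]
    exact ⟨fun h => cj_eq_one_iff.2 (R.cen_of_scalar hs (lft_le_Iso F N u.2) h),
      fun h => R.scalar_of_cen (cj_eq_one_iff.1 h)⟩
  exact ⟨(QuotientGroup.quotientMulEquivOfEq h2).trans (QuotientGroup.quotientKerEquivOfSurjective π h1),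
    fun u hu => congrArg Subtype.val (hπ ⟨u, hu⟩)⟩

/-- **the core** -/
theorem core : Core (R.P N) := by
  obtain ⟨e, -⟩ := R.exists_soc hs r
  have := r.simple
  refine ⟨by rw [P, ← map_commutator, lft_perfect r], e.isSimpleGroup, fun h => r.noncomm ⟨⟨fun a b => ?_⟩⟩,
    R.absIrr r, fun F₀ h0 ⟨X, hX⟩ => h0 (eq_top_iff.2 fun x _ => R.add_tr r F₀.toAddSubgroup (fun g hg => ?_) x)⟩
  · apply e.symm.injective
    rw [map_mul, map_mul]
    exact h.is_comm.comm _ _
  · have h1 := F₀.sum_mem (t := Finset.univ) fun i _ => hX _ ⟨g, hg, rfl⟩ i i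
    have h2 : tr (X * g * X⁻¹) = tr g := H915.LD.tr_conj X g
    exact h2 ▸ h1

theorem resCore (hH : H ≤ F.Aut) : IsResidualCore (R.B H) (R.P N) := by
  have hC := R.core hs r
  refine ⟨R.P_le_B r, ?_, hC.perfect, hC.simple, hC.nonabelian, ?_, hC.absIrred, hC.no_subfield⟩
  · rintro _ ⟨v, hv, rfl⟩ _ ⟨u, hu, rfl⟩
    exact ⟨_, conj_lft' r hH hv.1 hu, by rw [map_mul, map_mul, map_inv]⟩
  · rintro _ ⟨v, hv, rfl⟩ h
    refine R.scalar_of_cen (cj_eq_one_iff.1 (eq_one_of_cent r (cj_mem_Lin v) fun x hx => ?_))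
    obtain ⟨u, hu, rfl⟩ := exists_lft r hx
    have hv' := F.comm_le_Iso hv.2
    have hu' := lft_le_Iso F N hu
    have h1 := cj_eq_one_iff.2 (R.cen_of_scalar hs (mul_mem (mul_mem (mul_mem hv' hu') (inv_mem hv')) (inv_mem hu'))
      (by rw [map_mul, map_mul, map_mul, map_inv, map_inv]; exact h _ ⟨u, hu, rfl⟩))
    rw [map_mul, map_mul, map_mul, map_inv, map_inv, mul_inv_eq_one, mul_inv_eq_iff_eq_mul] at h1
    exact h1

/-- **`B` embeds in the group of automorphisms of the socle induced by matrices** -/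
theorem card_B_dvd_lin [Finite K] (hH : H ≤ F.Aut) :
    Nat.card (H.subgroupOf F.S) ∣ Nat.card (conjSoc (R.core hs r).absIrred).range := by
  have hC := R.core hs r
  have hR := R.resCore hs r hH
  let W : Subgroup Aˣ := H.comap (cj A) ⊓ I0 F
  let f : W →* H.subgroupOf F.S := (((cj A).comp W.subtype).codRestrict F.S fun v => cj_mem_S v.2.2).codRestrict _
    fun v => v.2.1
  let g : W →* MulAut (Soc (R.P N)) := (conjSoc hC.absIrred).comp ((R.gl.comp W.subtype).codRestrict _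
    fun v => H100.Ppd.mem_normalizer (hR.normal _ ⟨v, v.2, rfl⟩))
  have h1 : Function.Surjective f := by
    rintro ⟨⟨_, v, hv, rfl⟩, h⟩
    exact ⟨⟨v, h, hv⟩, rfl⟩
  have h2 : f.ker = g.ker := by
    ext v
    rw [MonoidHom.mem_ker, MonoidHom.mem_ker, Subtype.ext_iff, Subtype.ext_iff]
    refine ⟨fun h => ?_, fun h => cj_eq_one_iff.2 (R.cen_of_scalar hs (F.comm_le_Iso v.2.2)
      (H100.Ppd.scalar_of_conjSoc hC h))⟩
    have h3 : ((v : Aˣ) : A) ∈ Subring.center A := cj_eq_one_iff.1 h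
    ext x
    obtain ⟨⟨_, u, hu, rfl⟩, rfl⟩ := H915.LD.toSoc_surjective _ x
    refine (H100.Ppd.conjSoc_mk hC.absIrred _ _).trans (congrArg (toSoc _) (Subtype.ext ?_))
    change R.gl v * R.gl u * (R.gl v)⁻¹ = R.gl u
    rw [← map_mul, ← units_comm h3, map_mul, mul_inv_cancel_right]
  have h3 : Nat.card (H.subgroupOf F.S) = Nat.card g.range := by
    rw [← index_ker, ← h2, index_ker, MonoidHom.range_eq_top.2 h1, card_top]
  rw [h3]
  exact card_dvd_of_le (by rintro _ ⟨v, rfl⟩; exact ⟨_, rfl⟩)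

end res

end Rep

end Cfsg.Agent.N2C.Res

private theorem dce_4ed0fc0d0387 : _root_.True := by
  try have : _root_.True := by simp only [_root_.Cfsg.Agent.N2.cn.eq_1]
  try have : _root_.True := by simp only [_root_.Cfsg.Agent.N2C.Res.Rep.P.eq_1]
  exact _root_.True.intro
end
end
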